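import Cfsg.Agent.Lib.Involutions.RankOne.Basic

/-!
# Canonical form `g h t f` in the split rank-one set-up
-/

set_option autoImplicit false
set_option linter.unusedSectionVars false

namespace Cfsg.Agent.Involutions.RankOne

open MulAction Involutions.Basic

variable {G Ω : Type*} [Group G] [Finite G] [MulAction G Ω] {a : Ω} {t : G} {Q : Subgroup G}
variable (hS : Cfsg.IsRankOneSetup G Ω a t Q)

local notation "H" => MulAction.stabilizer G a
local notation "D" => (MulAction.stabilizer G a ⊓ MulAction.stabilizer G (t • a))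

include hS

theorem t_mul_self (x : G) : t * (t * x) = x := by rw [← mul_assoc, hS.mul_self, one_mul]

/-- An element `q ∈ Q` with `t q t ∈ G_a` is trivial. -/
theorem q_eq_one_of_conj {q : G} (hq : q ∈ Q) (h : t * q * t ∈ H) : q = 1 := by
  refine q_unique hS hq (one_mem _) (b_ne hS) ?_
  rw [one_smul]
  have h1 : (t * q * t) • a = a := h
  rw [mul_smul, mul_smul] at h1
  calc q • t • a = t • t • q • t • a := by rw [smul_smul t t, hS.mul_self, one_smul]
    _ = t • a := by rw [h1]

/-- Uniqueness of the canonical form `g h t f`. -/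
theorem canon_unique {g g' h h' f f' : G} (hg : g ∈ Q) (hg' : g' ∈ Q) (hh : h ∈ D) (hh' : h' ∈ D)
    (hf : f ∈ Q) (hf' : f' ∈ Q) (e : g * h * t * f = g' * h' * t * f') :
    g = g' ∧ h = h' ∧ f = f' := by
  have h1 : t * (f' * f⁻¹) * t = (g' * h')⁻¹ * (g * h) := by
    have e' : f' * f⁻¹ = (g' * h' * t)⁻¹ * (g * h * t) := by
      rw [eq_inv_mul_iff_mul_eq, ← mul_assoc, ← e, mul_inv_cancel_right]
    rw [e', mul_inv_rev (g' * h') t, t_inv hS]
    simp only [mul_assoc, t_mul_self hS, hS.mul_self, mul_one]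
  have h2 : f' * f⁻¹ = 1 := q_eq_one_of_conj hS (mul_mem hf' (inv_mem hf)) (h1 ▸
    mul_mem (inv_mem (mul_mem (hS.le hg') hh'.1)) (mul_mem (hS.le hg) hh.1))
  have h3 : f = f' := (mul_inv_eq_one.1 h2).symm
  subst h3
  rw [mul_left_inj, mul_left_inj] at e
  obtain ⟨h4, h5⟩ := eq_of_decomp hS hg hg' hh hh' e
  exact ⟨h4, h5, rfl⟩

end Cfsg.Agent.Involutions.RankOne
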