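import Cfsg.Agent.Lib.Involutions.RankOne.Peterfalvi
import Cfsg.Agent.Lib.Involutions.RankOne.Canonical
import Cfsg.Agent.Lib.Perm.Zassenhaus.Action

/-!
# The split rank-one set-up with `Q` of exponent two: a normal subgroup `L₂(q)` of odd index

`L = Q C ∪ Q C t Q` for the cyclic group `C` inverted by `t`.
-/

set_option autoImplicit false
set_option linter.unusedSectionVars false
set_option linter.style.haveILetI false

namespace Cfsg.Agent.Involutions.RankOne

open MulAction Involutions.Basic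

variable {G Ω : Type*} [Group G] [Finite G] [MulAction G Ω] {a : Ω} {t : G} {Q : Subgroup G}
variable (hS : Cfsg.IsRankOneSetup G Ω a t Q)

local notation "H" => MulAction.stabilizer G a
local notation "D" => (MulAction.stabilizer G a ⊓ MulAction.stabilizer G (t • a))

/-- The elements `q c` and `q c t f`. -/
def cell (Q C : Subgroup G) (t : G) : Set G :=
  {g | ∃ q ∈ Q, ∃ c ∈ C, g = q * c} ∪ {g | ∃ q ∈ Q, ∃ c ∈ C, ∃ f ∈ Q, g = q * c * t * f}

/-- The subgroup generated by `Q`, `C` and `t`. -/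
def span (Q C : Subgroup G) (t : G) : Subgroup G :=
  Subgroup.closure ((Q : Set G) ∪ C ∪ {t})

include hS

theorem t_form (hQ2 : ∀ x ∈ Q, x * x = 1) {C : Subgroup G}
    (hC : (C : Set G) = Cfsg.invertedBy D t) {x : G} (hx : x ∈ Q) (hx1 : x ≠ 1) :
    ∃ y ∈ Q, ∃ h ∈ C, t * x * t = y * h * t * y := by
  obtain ⟨⟨s, r⟩, ⟨hs, hr, heq⟩, -⟩ := exists_pair hS
  simp only at hs hr heq
  rw [inv_eq_of_mul_eq_one_left (hQ2 r hr)] at heq
  obtain ⟨k, hk, rfl⟩ := exists_K hS hs
    ((mem_involutions hS).2 ⟨orderOf_two_iff.2 ⟨hQ2 x hx, hx1⟩, hS.le hx⟩)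
  have hkC : k ∈ C := by rw [← SetLike.mem_coe, hC]; exact hk
  have hti := t_inv hS
  have e1 : t * k = k⁻¹ * t := by
    have := hk.2
    rw [hti] at this
    rw [← this, mul_assoc, hS.mul_self, mul_one]
  have e2 : k⁻¹ * t = t * k := e1.symm
  have e3 : t * k⁻¹ = k * t := by
    calc t * k⁻¹ = k * (k⁻¹ * t) * k⁻¹ := by group
      _ = k * (t * k) * k⁻¹ := by rw [e2]
      _ = k * t := by group
  have hy : k⁻¹ * r * k ∈ Q := by simpa using hS.conj_mem k⁻¹ (inv_mem hk.1.1) r hr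
  refine ⟨k⁻¹ * r * k, hy, (k * k)⁻¹, inv_mem (mul_mem hkC hkC), ?_⟩
  calc t * (k * s * k⁻¹) * t = (t * k) * s * (k⁻¹ * t) := by group
    _ = (k⁻¹ * t) * s * (t * k) := by rw [e1]
    _ = k⁻¹ * (t * s * t) * k := by group
    _ = k⁻¹ * (r * t * r) * k := by rw [heq]
    _ = k⁻¹ * r * k * (k⁻¹ * (t * k)) * (k⁻¹ * r * k) := by group
    _ = k⁻¹ * r * k * (k⁻¹ * (k⁻¹ * t)) * (k⁻¹ * r * k) := by rw [e1]
    _ = _ := by group

theorem span_eq (hQ2 : ∀ x ∈ Q, x * x = 1) {C : Subgroup G}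
    (hC : (C : Set G) = Cfsg.invertedBy D t) : (span Q C t : Set G) = cell Q C t := by
  have hti := t_inv hS
  have hCK : ∀ {c : G}, c ∈ C → c ∈ Cfsg.invertedBy D t := fun hc => hC ▸ hc
  have hCQ : ∀ {c q : G}, c ∈ C → q ∈ Q → c * q * c⁻¹ ∈ Q := fun hc hq =>
    hS.conj_mem _ (hCK hc).1.1 _ hq
  have htc : ∀ {c : G}, c ∈ C → t * c = c⁻¹ * t := fun {c} hc => by
    have := (hCK hc).2
    rw [hti] at this
    rw [← this, mul_assoc, hS.mul_self, mul_one]
  have hQmem : ∀ x ∈ (Q : Set G), x ∈ span Q C t := fun x hx =>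
    Subgroup.subset_closure (Or.inl (Or.inl hx))
  have hCmem : ∀ x ∈ (C : Set G), x ∈ span Q C t := fun x hx =>
    Subgroup.subset_closure (Or.inl (Or.inr hx))
  have htmem : t ∈ span Q C t := Subgroup.subset_closure (Or.inr rfl)
  refine Set.Subset.antisymm ?_ ?_
  swap
  · rintro g (⟨q, hq, c, hc, rfl⟩ | ⟨q, hq, c, hc, f, hf, rfl⟩)
    · exact mul_mem (hQmem q hq) (hCmem c hc)
    · exact mul_mem (mul_mem (mul_mem (hQmem q hq) (hCmem c hc)) htmem) (hQmem f hf)
  -- closed under multiplication by the generators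
  have hleft : ∀ x ∈ ((Q : Set G) ∪ C ∪ {t}), ∀ g ∈ cell Q C t, x * g ∈ cell Q C t := by
    rintro x ((hx | hx) | rfl) g (⟨q, hq, c, hc, rfl⟩ | ⟨q, hq, c, hc, f, hf, rfl⟩)
    · exact Or.inl ⟨x * q, Q.mul_mem hx hq, c, hc, by group⟩
    · exact Or.inr ⟨x * q, Q.mul_mem hx hq, c, hc, f, hf, by group⟩
    · exact Or.inl ⟨x * q * x⁻¹, hCQ hx hq, x * c, C.mul_mem hx hc, by group⟩
    · exact Or.inr ⟨x * q * x⁻¹, hCQ hx hq, x * c, C.mul_mem hx hc, f, hf, by group⟩
    · refine Or.inr ⟨1, one_mem _, c⁻¹, inv_mem hc, c⁻¹ * q * c, ?_, ?_⟩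
      · simpa using hCQ (inv_mem hc) hq
      · calc x * (q * c) = (x * c) * (c⁻¹ * q * c) := by group
          _ = c⁻¹ * x * (c⁻¹ * q * c) := by rw [htc hc]
          _ = _ := by group
    · by_cases hq1 : q = 1
      · subst hq1
        refine Or.inl ⟨c⁻¹ * f * c, by simpa using hCQ (inv_mem hc) hf, c⁻¹, inv_mem hc, ?_⟩
        calc x * (1 * c * x * f) = (x * c) * x * f := by group
          _ = c⁻¹ * x * x * f := by rw [htc hc]
          _ = c⁻¹ * (x * x) * f := by group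
          _ = _ := by rw [hS.mul_self]; group
      · obtain ⟨y, hy, h, hh, e⟩ := t_form hS hQ2 hC hq hq1
        refine Or.inr ⟨y, hy, h * c, mul_mem hh hc, c * y * c⁻¹ * f, mul_mem (hCQ hc hy) hf, ?_⟩
        calc x * (q * c * x * f) = (x * q * x) * (x * c) * x * f := by
              rw [show (x * q * x) * (x * c) * x * f = x * q * (x * x) * c * x * f by group,
                hS.mul_self]
              group
          _ = y * h * x * y * (c⁻¹ * x) * x * f := by rw [e, htc hc]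
          _ = y * h * (x * c⁻¹) * (c * y * c⁻¹ * (x * x) * f) := by group
          _ = y * h * (c * x) * (c * y * c⁻¹ * f) := by
              rw [hS.mul_self, mul_one, htc (inv_mem hc), inv_inv]
          _ = _ := by group
  intro g hg
  refine Subgroup.closure_induction_left (p := fun g _ => g ∈ cell Q C t) ?_ ?_ ?_ hg
  · exact Or.inl ⟨1, one_mem _, 1, one_mem _, by group⟩
  · exact fun x hx y _ hy => hleft x hx y hy
  · rintro x hx y - hy
    refine hleft _ ?_ y hy
    rcases hx with (hx | hx) | rfl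
    · exact Or.inl (Or.inl (Q.inv_mem hx))
    · exact Or.inl (Or.inr (C.inv_mem hx))
    · exact Or.inr (by rw [hti]; rfl)

/-- If `Q` has exponent two, `G` has a normal subgroup `L₂(q)` of odd index. -/
theorem exists_pslTwo [FaithfulSMul G Ω]
    (h2 : ∃ x y : G, x ≠ 1 ∧ y ≠ 1 ∧ x ≠ y ∧ x * x = 1 ∧ y * y = 1 ∧ x * y = y * x)
    (hsolv : Group.IsSolvable ↥D) (hQ2 : ∀ x ∈ Q, x * x = 1) :
    ∃ L : Subgroup G, L.Normal ∧ Odd L.index ∧
      ∃ (F : Type) (_ : Field F) (_ : Fintype F), (∃ n : ℕ, 2 ≤ n ∧ Fintype.card F = 2 ^ n) ∧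
        Nonempty (L ≃* Matrix.ProjectiveSpecialLinearGroup (Fin 2) F) := by
  classical
  obtain ⟨C, hC, -, hnorm⟩ := inverted_cyclic_normal hS h2 hsolv
  set L := span Q C t with hL
  have hcell := span_eq hS hQ2 hC
  have hti := t_inv hS
  have hCK : ∀ {c : G}, c ∈ C → c ∈ Cfsg.invertedBy D t := fun hc => hC ▸ hc
  have hQL : Q ≤ L := fun x hx => Subgroup.subset_closure (Or.inl (Or.inl hx))
  have hCL : C ≤ L := fun x hx => Subgroup.subset_closure (Or.inl (Or.inr hx))
  have htL : t ∈ L := Subgroup.subset_closure (Or.inr rfl)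
  -- the two-point stabiliser of `L`
  have hLD : ∀ g ∈ L, g • a = a → g • (t • a) = t • a → g ∈ C := by
    intro g hg ha hb
    rw [← SetLike.mem_coe, hL, hcell] at hg
    rcases hg with ⟨q, hq, c, hc, rfl⟩ | ⟨q, hq, c, hc, f, hf, rfl⟩
    · rw [mul_smul, (hCK hc).1.2] at hb
      rw [show q = 1 from inf_D hS hq ⟨hS.le hq, hb⟩, one_mul]
      exact hc
    · rw [mul_smul, mul_smul, mul_smul, show f • a = a from hS.le hf, (hCK hc).1.2] at ha
      exact absurd ha (smul_a_ne hS (hS.le hq) (b_ne hS))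
  -- `L` is normal and `G = L D`
  have hDdec : ∀ d ∈ D, d * t * d⁻¹ ∈ L := by
    intro d hd
    obtain ⟨v, k, hv, hvt, hk, rfl⟩ := InvertedSet.exists_decomp hS.odd_card hS.mul_self
      (fun x hx => t_conj_mem_D hS hx) hd
    have hkC : k ∈ C := by rw [← SetLike.mem_coe, hC]; exact hk
    have hkt : k * t * k⁻¹ = k * k * t := by
      have := hk.2
      calc k * t * k⁻¹ = k * (t * k * t⁻¹)⁻¹ * t := by group
        _ = _ := by rw [this, inv_inv]
    rw [mul_inv_eq_iff_eq_mul] at hvt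
    have : v * k * t * (v * k)⁻¹ = v * (k * k) * v⁻¹ * t := by
      calc v * k * t * (v * k)⁻¹ = v * (k * t * k⁻¹) * v⁻¹ := by group
        _ = v * (k * k * t) * v⁻¹ := by rw [hkt]
        _ = v * (k * k) * v⁻¹ * (v * t) * v⁻¹ := by group
        _ = v * (k * k) * v⁻¹ * (t * v) * v⁻¹ := by rw [hvt]
        _ = _ := by group
    rw [this]
    exact mul_mem (hCL (hnorm v hv _ (mul_mem hkC hkC))) htL
  have hDN : D ≤ Subgroup.normalizer (L : Set G) := by
    rw [Subgroup.le_normalizer_iff]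
    intro d hd x hx
    have hle : L ≤ L.comap (MulAut.conj d).toMonoidHom := (Subgroup.closure_le _).2 (by
      rintro y ((hy | hy) | rfl)
      · exact hQL (hS.conj_mem d hd.1 y hy)
      · exact hCL (hnorm d hd y hy)
      · exact hDdec d hd)
    exact hle hx
  have hprod : ∀ g : G, ∃ l ∈ L, ∃ d ∈ D, g = l * d := by
    intro g
    by_cases hga : g • a = a
    · obtain ⟨q, hq, d, hd, rfl⟩ := exists_decomp hS (show g ∈ H from hga)
      exact ⟨q, hQL hq, d, hd, rfl⟩
    · obtain ⟨q, hq, hqb⟩ := exists_q hS hga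
      obtain ⟨q', hq', d, hd, e⟩ := exists_decomp hS (h := (q * t)⁻¹ * g) (by
        show ((q * t)⁻¹ * g) • a = a
        rw [mul_smul, inv_smul_eq_iff, mul_smul]
        exact hqb.symm)
      refine ⟨q * t * q', mul_mem (mul_mem (hQL hq) htL) (hQL hq'), d, hd, ?_⟩
      rw [mul_assoc _ q' d, ← e, mul_inv_cancel_left]
  haveI hLn : L.Normal := by
    refine Subgroup.normalizer_eq_top_iff.1 (eq_top_iff.2 fun g _ => ?_)
    obtain ⟨l, hl, d, hd, rfl⟩ := hprod g
    exact mul_mem (Subgroup.le_normalizer hl) (hDN hd)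
  have hodd : Odd L.index := by
    refine hS.odd_card.of_dvd_nat ?_
    rw [Subgroup.index_eq_card]
    refine Subgroup.card_dvd_of_surjective ((QuotientGroup.mk' L).comp (Subgroup.subtype D)) ?_
    intro x
    obtain ⟨g, rfl⟩ := QuotientGroup.mk'_surjective L x
    obtain ⟨l, hl, d, hd, rfl⟩ := hprod g
    refine ⟨⟨d, hd⟩, ?_⟩
    show QuotientGroup.mk' L d = QuotientGroup.mk' L (l * d)
    rw [map_mul, show QuotientGroup.mk' L l = 1 from (QuotientGroup.eq_one_iff l).2 hl, one_mul]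
  -- the frame
  have hsmul : ∀ (g : L) (c : Ω), g • c = (g : G) • c := fun _ _ => rfl
  have hcomm : ∀ u ∈ Q, ∀ v ∈ Q, u * v = v * u := fun u hu v hv => by
    have h := hQ2 _ (mul_mem hu hv)
    calc u * v = (u * v)⁻¹ := (inv_eq_of_mul_eq_one_left h).symm
      _ = v * u := by
        rw [mul_inv_rev, inv_eq_of_mul_eq_one_left (hQ2 u hu), inv_eq_of_mul_eq_one_left (hQ2 v hv)]
  haveI : FaithfulSMul L Ω := ⟨fun {g g'} h => Subtype.ext (eq_of_smul_eq_smul h)⟩
  have hF : Perm.Zassenhaus.Frame3 (G := L) a (t • a) (Q.subgroupOf L) := by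
    refine ⟨(b_ne hS).symm, inferInstance, fun u hu => hS.le (Subgroup.mem_subgroupOf.1 hu),
      fun g hg u hu => Subgroup.mem_subgroupOf.2 (hS.conj_mem g hg u hu),
      fun u hu v hv => Subtype.ext (hcomm u hu v hv), ?_, ?_⟩
    · intro y z hy hz
      obtain ⟨q₁, hq₁, e₁⟩ := exists_q hS hy
      obtain ⟨q₂, hq₂, e₂⟩ := exists_q hS hz
      refine ⟨⟨⟨q₂ * q₁⁻¹, hQL (mul_mem hq₂ (inv_mem hq₁))⟩,
        Subgroup.mem_subgroupOf.2 (mul_mem hq₂ (inv_mem hq₁))⟩, ?_, fun u hu => ?_⟩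
      · show (q₂ * q₁⁻¹) • y = z
        rw [mul_smul, ← e₁, inv_smul_smul, e₂]
      · refine Subtype.ext (Subtype.ext ?_)
        refine q_unique hS (Subgroup.mem_subgroupOf.1 u.2) (mul_mem hq₂ (inv_mem hq₁)) hy
          (Eq.trans hu ?_)
        rw [mul_smul, ← e₁, inv_smul_smul, e₂]
    · intro g hga hgb c hca hcb hgc
      have hgC := hLD g g.2 hga hgb
      obtain ⟨q, hq, rfl⟩ := exists_q hS hca
      by_contra hg1
      have h1 : (g : G) ≠ 1 := fun e => hg1 (Subtype.ext e)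
      have hbot := cent_Q_eq_one hS (hCK hgC) h1
      have hq' : (g : G) * q * (g : G)⁻¹ ∈ Q := hS.conj_mem _ hga q hq
      have hfix : (g : G) * q * (g : G)⁻¹ = q := by
        refine q_unique hS hq' hq (b_ne hS) ?_
        rw [mul_smul, mul_smul, inv_smul_eq_iff.2 (show t • a = (g : G) • t • a from hgb.symm)]
        exact hgc
      have hq0 : q = 1 := Subgroup.mem_bot.1 (hbot ▸ Subgroup.mem_inf.2 ⟨hq,
        Subgroup.mem_centralizer_singleton_iff.2 (mul_inv_eq_iff_eq_mul.1 hfix).symm⟩)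
      exact hcb (by rw [hq0, one_smul])
  have hstab : ∀ g : L, g • a = a → g • (t • a) = t • a → (g : G) ∈ C :=
    fun g h1 h2' => hLD g g.2 h1 h2'
  have hinv : ∀ g : L, g • a = a → g • (t • a) = t • a →
      (⟨t, htL⟩ : L) * g * ⟨t, htL⟩ = g⁻¹ := by
    intro g h1 h2'
    have := (hCK (hstab g h1 h2')).2
    rw [hti] at this
    exact Subtype.ext this
  have hcardQ : Nat.card Q = Nat.card C + 1 := by
    have hK : Nat.card C = Nat.card (Cfsg.involutionsIn (H : Set G)) := by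
      rw [← card_K hS, ← hC]; rfl
    have e : Cfsg.involutionsIn (H : Set G) = (Q : Set G) \ {1} := by
      ext x
      rw [mem_involutions hS, Set.mem_sdiff, Set.mem_singleton_iff, orderOf_two_iff]
      exact ⟨fun h => ⟨involution_mem hS h.2 h.1.1, h.1.2⟩,
        fun h => ⟨⟨hQ2 x h.1, h.2⟩, hS.le h.1⟩⟩
    rw [hK, Nat.card_coe_set_eq, e, Set.ncard_sdiff_singleton_add_one (one_mem Q) (Set.toFinite _)]
    rfl
  have hcardstab : Nat.card ↥(MulAction.stabilizer L a ⊓ MulAction.stabilizer L (t • a)) =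
      Nat.card C := Nat.card_congr
    { toFun := fun g => ⟨((g : L) : G), hstab g g.2.1 g.2.2⟩
      invFun := fun c => ⟨⟨c, hCL c.2⟩, (hCK c.2).1⟩
      left_inv := fun g => rfl
      right_inv := fun c => rfl }
  haveI := finite_points hS
  have hΩ : Nat.card Ω = Nat.card ↥(MulAction.stabilizer L a ⊓ MulAction.stabilizer L (t • a)) + 2 := by
    rw [hcardstab, card_points hS, hcardQ]
  obtain ⟨K, i1, i2, hK, hpgl, -⟩ := hF.iso_of_inverted (s := ⟨t, htL⟩) rfl
    (Subtype.ext hS.mul_self) hinv (Or.inl hΩ)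
  obtain ⟨e⟩ := hpgl hΩ
  haveI : Fact (Nat.Prime 2) := ⟨Nat.prime_two⟩
  obtain ⟨n, hn⟩ := (IsPGroup.iff_card (p := 2) (G := Q)).1 fun x => ⟨1, Subtype.ext (by
    rw [pow_one, pow_two]; exact hQ2 x x.2)⟩
  have hKn : Fintype.card K = 2 ^ n := by
    rw [← hn]
    have := card_points hS
    omega
  have hn2 : 2 ≤ n := by
    obtain ⟨s, hs, s', hs', hne⟩ := exists_two hS h2
    obtain ⟨hso, hsH⟩ := (mem_involutions hS).1 hs
    obtain ⟨hso', hsH'⟩ := (mem_involutions hS).1 hs'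
    have h3 : 3 ≤ Nat.card Q := by
      have hsub : ({1, s, s'} : Set G) ⊆ Q := by
        rintro x (rfl | rfl | rfl)
        · exact one_mem Q
        · exact involution_mem hS hsH (inv_sq_one hso)
        · exact involution_mem hS hsH' (inv_sq_one hso')
      have := Set.ncard_le_ncard hsub (Set.toFinite _)
      rwa [Set.ncard_eq_three.2 ⟨1, s, s', (ne_one hso).symm, (ne_one hso').symm, hne, rfl⟩] at this
    rw [hn] at h3
    match n, h3 with
    | 0, h3 => simp at h3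
    | 1, h3 => simp at h3
    | n + 2, _ => omega
  have hchar : ringChar K = 2 := FiniteField.even_card_iff_char_two.2 (by
    rw [hKn]
    exact Nat.mod_eq_zero_of_dvd (dvd_pow_self 2 (by omega)))
  let e' : Matrix.ProjectiveSpecialLinearGroup (Fin 2) K ≃* Matrix.ProjGenLinGroup (Fin 2) K :=
    MulEquiv.ofBijective Matrix.ProjectiveSpecialLinearGroup.toPGL
      ⟨Matrix.ProjectiveSpecialLinearGroup.toPGL_injective,
        Matrix.ProjectiveSpecialLinearGroup.toPGL_surj_of_roots fun r => by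
          obtain ⟨u, hu⟩ := FiniteField.isSquare_of_char_two hchar (r : K)
          have hu0 : u ≠ 0 := by rintro rfl; simp at hu
          exact ⟨Units.mk0 u hu0, Units.ext (by simp [hu, sq])⟩⟩
  exact ⟨L, hLn, hodd, K, i1, i2, ⟨n, hn2, hKn⟩, ⟨e.trans e'.symm⟩⟩

end Cfsg.Agent.Involutions.RankOne
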