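import Cfsg.Agent.Lib.Involutions.RankOne.InvertedCyclic

/-!
# Consequences in the split rank-one set-up, given solvability of the two-point stabiliser
-/

set_option autoImplicit false
set_option linter.unusedSectionVars false
set_option linter.style.haveILetI false

namespace Cfsg.Agent.Involutions.RankOne

open MulAction Involutions.Basic

variable {G Ω : Type*} [Group G] [Finite G] [MulAction G Ω] {a : Ω} {t : G} {Q : Subgroup G}
variable (hS : Cfsg.IsRankOneSetup G Ω a t Q)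
variable (h2 : ∃ x y : G, x ≠ 1 ∧ y ≠ 1 ∧ x ≠ y ∧ x * x = 1 ∧ y * y = 1 ∧ x * y = y * x)

local notation "H" => MulAction.stabilizer G a
local notation "D" => (MulAction.stabilizer G a ⊓ MulAction.stabilizer G (t • a))

include hS h2

/-- The involutions of `G_a` together with the identity form an elementary abelian group, and `D`
acts on it as in `InvertedCyclic.Data`. -/
theorem exists_data : ∃ (E : Subgroup G) (s : G), InvertedCyclic.Data D E t s ∧
    (∀ x : G, x ∈ E ↔ x = 1 ∨ x ∈ Cfsg.involutionsIn (H : Set G)) := by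
  obtain ⟨⟨s, r⟩, ⟨hs, hr, heq⟩, -⟩ := exists_pair hS
  simp only at hs hr heq
  have hmem : ∀ {x : G}, x ∈ Cfsg.involutionsIn (H : Set G) → x * x = 1 := fun h => h.2.2
  let E : Subgroup G :=
    { carrier := {x | x = 1 ∨ x ∈ Cfsg.involutionsIn (H : Set G)}
      one_mem' := Or.inl rfl
      mul_mem' := fun {x y} hx hy => by
        rcases hx with rfl | hx
        · rwa [one_mul]
        rcases hy with rfl | hy
        · rw [mul_one]; exact Or.inr hx
        exact involutions_closed hS h2 hx hy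
      inv_mem' := fun {x} hx => by
        rcases hx with rfl | hx
        · exact Or.inl inv_one
        · rw [inv_eq_of_mul_eq_one_right (hmem hx)]; exact Or.inr hx }
  have hE : ∀ x : G, x ∈ E ↔ x = 1 ∨ x ∈ Cfsg.involutionsIn (H : Set G) := fun x => Iff.rfl
  have hcomm : ∀ x ∈ E, ∀ y ∈ E, x * y = y * x := by
    intro x hx y hy
    rcases hx with rfl | hx
    · simp
    rcases hy with rfl | hy
    · simp
    exact involution_central hS h2 hx
      (involution_mem hS hy.1 (hmem hy))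
  refine ⟨E, s, ⟨hS.odd_card, hS.mul_self, fun x hx => t_conj_mem_D hS hx, hcomm, ?_, ?_,
    Or.inr hs, hs.2.1, ?_, fun k hk k' hk' h => K_conj_injective hS hs hk hk' h, ?_⟩, hE⟩
  · rintro x (rfl | hx)
    · simp
    · exact hmem hx
  · refine Subgroup.le_normalizer_iff.2 fun d hd x hx => ?_
    rcases hx with rfl | hx
    · exact Or.inl (by simp)
    · exact Or.inr (conj_mem_involutions hS hx hd.1)
  · intro e he he1
    exact exists_K hS hs (he.resolve_left he1)
  · intro d hd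
    have h := cent_t_eq hS hs hr heq
    constructor
    · intro e
      have h1 : d ∈ D ⊓ Subgroup.centralizer ({t} : Set G) :=
        Subgroup.mem_inf.2 ⟨hd, InvertedSet.mem_cent.2 e⟩
      rw [h, Subgroup.mem_inf, Subgroup.mem_centralizer_singleton_iff] at h1
      exact mul_inv_eq_iff_eq_mul.2 h1.2
    · intro e
      have h1 : d ∈ D ⊓ Subgroup.centralizer ({s} : Set G) :=
        Subgroup.mem_inf.2 ⟨hd, Subgroup.mem_centralizer_singleton_iff.2 (mul_inv_eq_iff_eq_mul.1 e)⟩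
      rw [← h, Subgroup.mem_inf] at h1
      exact InvertedSet.mem_cent.1 h1.2

/-- The inverted set is a cyclic subgroup normalised by `D` (S1131). -/
theorem inverted_cyclic_normal (hsolv : Group.IsSolvable ↥D) :
    ∃ C : Subgroup G, (C : Set G) = Cfsg.invertedBy D t ∧ IsCyclic C ∧
      ∀ d ∈ D, ∀ c ∈ C, d * c * d⁻¹ ∈ C := by
  obtain ⟨E, s, hd, -⟩ := exists_data hS h2
  obtain ⟨g, -, hgK, hn⟩ := hd.exists_cyclic
  refine ⟨Subgroup.zpowers g, hgK, inferInstance, fun d hd' c hc => ?_⟩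
  obtain ⟨i, rfl⟩ := hc
  show d * g ^ i * d⁻¹ ∈ _
  rw [← conj_zpow]
  exact zpow_mem (hn d hd') i

/-- `C_D(t)` is cyclic modulo the centralizer of the inverted set (S1133). -/
theorem centralizer_quotient_cyclic (hsolv : Group.IsSolvable ↥D) :
    ∃ v ∈ D ⊓ Subgroup.centralizer {t},
      (D ⊓ Subgroup.centralizer {t} ⊓ Subgroup.centralizer (Cfsg.invertedBy D t)) ⊔
          Subgroup.closure {v} = D ⊓ Subgroup.centralizer {t} := by
  obtain ⟨E, s, hd, -⟩ := exists_data hS h2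
  obtain ⟨g, -, hgK, hn⟩ := hd.exists_cyclic
  exact hd.exists_generator hgK hn

/-- A Sylow 2-subgroup of `Q` is abelian or a Suzuki 2-group (S1132). -/
theorem sylow_two_abelian_or_suzuki (hsolv : Group.IsSolvable ↥D) (S : Sylow 2 ↥Q) :
    IsMulCommutative (S : Subgroup ↥Q) ∨ Cfsg.IsSuzukiTwoGroup ↥(S : Subgroup ↥Q) := by
  classical
  haveI : Fact (Nat.Prime 2) := ⟨Nat.prime_two⟩
  refine or_iff_not_imp_left.2 fun hna => ?_
  haveI := isNilpotent_Q hS h2
  haveI hSn : (S : Subgroup Q).Normal := inferInstance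
  haveI hSc : (S : Subgroup Q).Characteristic := S.characteristic_of_normal hSn
  set S' : Subgroup G := (S : Subgroup Q).map Q.subtype with hS'
  have hinv : ∀ s : G, s ∈ Cfsg.involutionsIn (H : Set G) → s ∈ S' := by
    intro s hs
    have hsQ := involution_mem hS hs.1 hs.2.2
    have ho : orderOf (⟨s, hsQ⟩ : Q) = 2 := by
      rw [Subgroup.orderOf_mk]; exact orderOf_two_iff.2 ⟨hs.2.2, hs.2.1⟩
    have hp : IsPGroup 2 (Subgroup.zpowers (⟨s, hsQ⟩ : Q)) :=
      IsPGroup.of_card (n := 1) (by rw [Nat.card_zpowers, ho, pow_one])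
    obtain ⟨T, hT⟩ := hp.exists_le_sylow
    haveI := Sylow.unique_of_normal S hSn
    rw [Subsingleton.elim T S] at hT
    exact ⟨_, hT (Subgroup.mem_zpowers _), rfl⟩
  have hDS : D ≤ Subgroup.normalizer (S' : Set G) := by
    have hDQ : D ≤ Subgroup.normalizer (Q : Set G) :=
      Subgroup.le_normalizer_iff.2 fun d hd x hx => hS.conj_mem d hd.1 x hx
    refine Subgroup.le_normalizer_iff.2 fun d hd x hx => ?_
    obtain ⟨y, hy, rfl⟩ := hx
    have h1 := Subgroup.characteristic_iff_map_eq.1 hSc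
      (Subgroup.normalizerMonoidHom Q ⟨d, hDQ hd⟩)
    exact ⟨_, h1.le ⟨y, hy, rfl⟩, rfl⟩
  let e : (S : Subgroup Q) ≃* S' := (S : Subgroup Q).equivMapOfInjective Q.subtype Q.subtype_injective
  let φ : ↥D →* MulAut ↥(S : Subgroup Q) :=
    (MulAut.congr e.symm).toMonoidHom.comp
      ((Subgroup.normalizerMonoidHom S').comp (Subgroup.inclusion hDS))
  have hφ : ∀ (d : ↥D) (x : ↥(S : Subgroup Q)),
      (((φ d x : ↥(S : Subgroup Q)) : Q) : G) = (d : G) * ((x : Q) : G) * (d : G)⁻¹ := by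
    intro d x
    show (((e.symm (Subgroup.normalizerMonoidHom S' (Subgroup.inclusion hDS d) (e x))) : Q) : G) = _
    exact (congrArg Subtype.val (e.apply_symm_apply _) : _)
  obtain ⟨E, s, hd, hE⟩ := exists_data hS h2
  obtain ⟨g, hg, hgK, -⟩ := hd.exists_cyclic
  set g' : ↥D := ⟨g, hg.1⟩
  obtain ⟨s₁, hs₁, s₂, hs₂, hne⟩ := exists_two hS h2
  obtain ⟨y₁, hy₁, rfl⟩ := hinv _ hs₁
  obtain ⟨y₂, hy₂, rfl⟩ := hinv _ hs₂
  refine ⟨inferInstance, S.2, ?_, ⟨⟨y₁, hy₁⟩, ⟨y₂, hy₂⟩, ?_, ?_, ?_, ?_, ?_⟩,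
    Subgroup.zpowers (φ g'), inferInstance, ?_⟩
  · by_contra hcon
    push Not at hcon
    exact hna ⟨⟨hcon⟩⟩
  · exact fun h => hne (congrArg (fun z : ↥(S : Subgroup Q) => ((z : Q) : G)) h)
  · exact fun h => hs₁.2.1 (congrArg (fun z : ↥(S : Subgroup Q) => ((z : Q) : G)) h)
  · exact Subtype.ext (Subtype.ext hs₁.2.2)
  · exact fun h => hs₂.2.1 (congrArg (fun z : ↥(S : Subgroup Q) => ((z : Q) : G)) h)
  · exact Subtype.ext (Subtype.ext hs₂.2.2)
  · intro x y hx hx2 hy hy2
    have key : ∀ z : ↥(S : Subgroup Q), z ≠ 1 → z * z = 1 →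
        ((z : Q) : G) ∈ Cfsg.involutionsIn (H : Set G) := fun z hz hz2 =>
      ⟨hS.le (z : Q).2, fun h => hz (Subtype.ext (Subtype.ext h)),
        congrArg (fun w : ↥(S : Subgroup Q) => ((w : Q) : G)) hz2⟩
    obtain ⟨k, hk, hkx⟩ := exists_K hS (key x hx hx2) (key y hy hy2)
    rw [← hgK] at hk
    obtain ⟨i, rfl⟩ := hk
    have hcoe : ∀ j : ℤ, (((φ g' ^ j) x : ↥(S : Subgroup Q)) : Q) =
        ((φ (g' ^ j) x : ↥(S : Subgroup Q)) : Q) := fun j => by rw [map_zpow]
    refine ⟨⟨_, i, rfl⟩, ?_, ?_⟩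
    · refine Subtype.ext (Subtype.ext ?_)
      show ((((φ g' ^ i) x : ↥(S : Subgroup Q)) : Q) : G) = _
      rw [hcoe, hφ, SubgroupClass.coe_zpow]
      exact hkx
    · rintro ⟨_, j, rfl⟩ hj
      refine Subtype.ext ?_
      show φ g' ^ j = φ g' ^ i
      have hjx := congrArg (fun z : ↥(S : Subgroup Q) => ((z : Q) : G)) hj
      simp only [hcoe, hφ, SubgroupClass.coe_zpow] at hjx
      have hij := K_conj_injective hS (key x hx hx2) ((Set.ext_iff.1 hgK _).1 ⟨j, rfl⟩)
        ((Set.ext_iff.1 hgK _).1 ⟨i, rfl⟩) (hjx.trans hkx.symm)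
      have : g' ^ j = g' ^ i := Subtype.ext hij
      rw [← map_zpow, ← map_zpow, this]

end Cfsg.Agent.Involutions.RankOne
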