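import Cfsg.Agent.Lib.Involutions.RankOne.ConsBase

/-!
# S1222 from the split rank-one classification
-/

set_option autoImplicit false

namespace Cfsg.Agent.Involutions.RankOne.Cons

open MulAction Involutions.Basic

universe u

variable {G : Type u} [Group G] [Finite G] {H Q : Subgroup G}

omit [Finite G] in
/-- Transitivity of a subgroup on the cosets other than `H` gives double transitivity. -/
theorem two_pretransitive (hQH : Q ≤ H)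
    (htrans : ∀ g₁ g₂ : G, g₁ ∉ H → g₂ ∉ H → ∃ u ∈ Q, g₂⁻¹ * (u * g₁) ∈ H) :
    IsMultiplyPretransitive G (G ⧸ H) 2 := by
  refine is_two_pretransitive_iff.2 fun {p q r s} hpq hrs => ?_
  obtain ⟨g₁, rfl⟩ := QuotientGroup.mk_surjective p
  obtain ⟨g₂, rfl⟩ := QuotientGroup.mk_surjective q
  obtain ⟨k₁, rfl⟩ := QuotientGroup.mk_surjective r
  obtain ⟨k₂, rfl⟩ := QuotientGroup.mk_surjective s
  have h1 : g₁⁻¹ * g₂ ∉ H := fun h => hpq (QuotientGroup.eq.2 h)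
  have h2 : k₁⁻¹ * k₂ ∉ H := fun h => hrs (QuotientGroup.eq.2 h)
  obtain ⟨v, hv, hv'⟩ := htrans _ _ h1 h2
  refine ⟨k₁ * v * g₁⁻¹, ?_, ?_⟩
  · show ((k₁ * v * g₁⁻¹ * g₁ : G) : G ⧸ H) = (k₁ : G ⧸ H)
    rw [QuotientGroup.eq, show (k₁ * v * g₁⁻¹ * g₁)⁻¹ * k₁ = v⁻¹ by group]
    exact inv_mem (hQH hv)
  · show ((k₁ * v * g₁⁻¹ * g₂ : G) : G ⧸ H) = (k₂ : G ⧸ H)
    rw [QuotientGroup.eq, show (k₁ * v * g₁⁻¹ * g₂)⁻¹ * k₂ =
      ((k₁⁻¹ * k₂)⁻¹ * (v * (g₁⁻¹ * g₂)))⁻¹ by group]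
    exact inv_mem hv'

/-- The rank-one set-up from a strongly embedded subgroup with a regular normal subgroup. -/
theorem exists_setup (hH : Cfsg.IsStronglyEmbedded H) (hQH : Q ≤ H) (hQn : (Q.subgroupOf H).Normal)
    (htrans : ∀ g₁ g₂ : G, g₁ ∉ H → g₂ ∉ H → ∃ u ∈ Q, g₂⁻¹ * (u * g₁) ∈ H)
    (hreg : ∀ g : G, g ∉ H → ∀ u ∈ Q, g⁻¹ * (u * g) ∈ H → u = 1) :
    ∃ t : G, Cfsg.IsRankOneSetup G (G ⧸ H) ((1 : G) : G ⧸ H) t Q := by
  obtain ⟨t, htH, ht⟩ := StronglyEmbedded.exists_involution_notMem hH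
  have hodd := hH.2.2 t htH
  have hfree : ∀ x ∈ Q, t⁻¹ * x * t ∈ H → x = 1 := fun x hx h =>
    hreg t htH x hx (by rwa [← mul_assoc])
  have hsup : ∀ h ∈ H, ∃ q ∈ Q, t⁻¹ * (q⁻¹ * h) * t ∈ H := fun h hh => by
    obtain ⟨q, hq, hq'⟩ := htrans t (h * t) htH (fun e => htH (by simpa using mul_mem (inv_mem hh) e))
    refine ⟨q, hq, ?_⟩
    rw [show t⁻¹ * (q⁻¹ * h) * t = ((h * t)⁻¹ * (q * t))⁻¹ by group]
    exact inv_mem hq'
  refine ⟨t, setup_of_cosets (two_pretransitive hQH htrans) (inv_sq_one ht) htH hQH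
    (fun h hh x hx => hQn.conj_mem ⟨x, hQH hx⟩ hx ⟨h, hh⟩) hfree hsup ?_ hodd⟩
  -- `|H| = |Q| |D|` is even and `|D|` is odd
  by_contra hQodd
  rw [Nat.not_even_iff_odd] at hQodd
  set D := H ⊓ H.map (MulAut.conj t).toMonoidHom with hD
  have hDmem : ∀ x : G, x ∈ D ↔ x ∈ H ∧ t⁻¹ * x * t ∈ H := fun x => by
    rw [hD, Subgroup.mem_inf, Subgroup.mem_map_equiv, MulAut.conj_symm_apply]
  have hcard : Nat.card H = Nat.card Q * Nat.card D := by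
    rw [← Nat.card_prod]
    refine (Nat.card_eq_of_bijective (fun p : ↥Q × ↥D => (⟨(p.1 : G) * p.2,
      mul_mem (hQH p.1.2) ((hDmem _).1 p.2.2).1⟩ : H)) ⟨?_, ?_⟩).symm
    · rintro ⟨q, d⟩ ⟨q', d'⟩ e
      have e' : (q : G) * d = q' * d' := congrArg Subtype.val e
      have h1 : (q' : G)⁻¹ * q ∈ D := by
        rw [show (q' : G)⁻¹ * q = d' * (d : G)⁻¹ by
          rw [eq_mul_inv_iff_mul_eq, mul_assoc, e', inv_mul_cancel_left]]
        exact mul_mem d'.2 (inv_mem d.2)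
      have h2 : (q' : G)⁻¹ * q = 1 :=
        hfree _ (mul_mem (inv_mem q'.2) q.2) ((hDmem _).1 h1).2
      have h3 : q = q' := Subtype.ext (inv_mul_eq_one.1 h2).symm
      subst h3
      exact Prod.ext rfl (Subtype.ext (mul_left_cancel e'))
    · rintro ⟨h, hh⟩
      obtain ⟨q, hq, hq'⟩ := hsup h hh
      exact ⟨(⟨q, hq⟩, ⟨q⁻¹ * h, (hDmem _).2 ⟨mul_mem (inv_mem (hQH hq)) hh, hq'⟩⟩),
        Subtype.ext (mul_inv_cancel_left q h)⟩
  have := hH.2.1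
  rw [hcard] at this
  exact Nat.not_even_iff_odd.2 (hQodd.mul hodd) this

/-- S1222 follows from S1136. -/
theorem s1222 (hC : Classification.{u}) [IsSimpleGroup G] (H : Subgroup G)
    (hH : Cfsg.IsStronglyEmbedded H) (Q : Subgroup G) (hQH : Q ≤ H) (hQn : (Q.subgroupOf H).Normal)
    (htrans : ∀ g₁ g₂ : G, g₁ ∉ H → g₂ ∉ H → ∃ u ∈ Q, g₂⁻¹ * (u * g₁) ∈ H)
    (hreg : ∀ g : G, g ∉ H → ∀ u ∈ Q, g⁻¹ * (u * g) ∈ H → u = 1) :
    (∃ (F : Type) (_ : Field F) (_ : Fintype F), CharP F 2 ∧ 4 ≤ Fintype.card F ∧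
        Nonempty (G ≃* Matrix.ProjectiveSpecialLinearGroup (Fin 2) F)) ∨
      Cfsg.IsSuzuki G ∨
      (∃ (F : Type) (_ : Field F) (_ : Fintype F) (q : ℕ), Fintype.card F = q ^ 2 ∧ Even q ∧ 4 ≤ q ∧
        Nonempty (G ≃* Cfsg.PSU 3 F q)) := by
  haveI := faithful hH.1
  obtain ⟨t, hS⟩ := exists_setup hH hQH hQn htrans hreg
  rcases simple_case hC hH hS with ⟨F, i1, i2, ⟨n, hn, hF⟩, hf⟩ | h | ⟨F, i1, i2, n, hn, hF, hf⟩
  · refine Or.inl ⟨F, i1, i2, ?_, ?_, hf⟩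
    · haveI : Fact (Nat.Prime 2) := ⟨Nat.prime_two⟩
      exact (CharP.charP_iff_prime_eq_zero Nat.prime_two).2
        (pow_eq_zero_iff (n := n) (by omega) |>.1 (by
          rw [← Nat.cast_pow, ← hF, Nat.cast_card_eq_zero]))
    · rw [hF]
      calc 4 = 2 ^ 2 := by norm_num
        _ ≤ 2 ^ n := Nat.pow_le_pow_right (by norm_num) hn
  · exact Or.inr (Or.inl h)
  · refine Or.inr (Or.inr ⟨F, i1, i2, 2 ^ n, hF, ?_, ?_, hf⟩)
    · exact Nat.even_pow.2 ⟨even_two, by omega⟩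
    · calc 4 = 2 ^ 2 := by norm_num
        _ ≤ 2 ^ n := Nat.pow_le_pow_right (by norm_num) hn

end Cfsg.Agent.Involutions.RankOne.Cons
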