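import Cfsg.Agent.Lib.Involutions.RankOne.Nilpotent

/-!
# Products of two involutions
-/

set_option autoImplicit false
set_option linter.unusedSectionVars false

namespace Cfsg.Agent.Involutions.RankOne

open MulAction Involutions.Basic

variable {G Ω : Type*} [Group G] [Finite G] [MulAction G Ω] {a : Ω} {t : G} {Q : Subgroup G}
variable (hS : Cfsg.IsRankOneSetup G Ω a t Q)
variable (h2 : ∃ x y : G, x ≠ 1 ∧ y ≠ 1 ∧ x ≠ y ∧ x * x = 1 ∧ y * y = 1 ∧ x * y = y * x)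

local notation "H" => MulAction.stabilizer G a
local notation "D" => (MulAction.stabilizer G a ⊓ MulAction.stabilizer G (t • a))

include hS h2

theorem not_common_fixed {u v : G} (hu1 : u ≠ 1) (hu2 : u * u = 1) (hv1 : v ≠ 1) (hv2 : v * v = 1)
    (hx : u * v * (u * v) ≠ 1) {c : Ω} (hu : u • c = c) : v • c ≠ c := by
  intro hv
  obtain ⟨g, hg⟩ := exists_to_a hS c
  have hu' : g * u * g⁻¹ ∈ Cfsg.involutionsIn (H : Set G) :=
    (mem_involutions hS).2 ⟨by rw [orderOf_conj]; exact orderOf_two_iff.2 ⟨hu2, hu1⟩,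
      conj_mem_H hS hg hu⟩
  have hv' : g * v * g⁻¹ ∈ Q := involution_mem hS (conj_mem_H hS hg hv)
    (by rw [show g * v * g⁻¹ * (g * v * g⁻¹) = g * (v * v) * g⁻¹ by group, hv2]; group)
  have h := involution_central hS h2 hu' hv'
  refine hx ?_
  have h' : u * v = v * u := by
    calc u * v = g⁻¹ * ((g * u * g⁻¹) * (g * v * g⁻¹)) * g := by group
      _ = g⁻¹ * ((g * v * g⁻¹) * (g * u * g⁻¹)) * g := by rw [h]
      _ = v * u := by group
  calc u * v * (u * v) = u * v * (v * u) := by rw [← h']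
    _ = u * (v * v) * u := by group
    _ = 1 := by rw [hv2, mul_one, hu2]

theorem exists_conj_mul_t {u v : G} (hu1 : u ≠ 1) (hu2 : u * u = 1) (hv1 : v ≠ 1) (hv2 : v * v = 1)
    (hx : u * v * (u * v) ≠ 1) :
    ∃ g : G, ∃ u' ∈ Cfsg.involutionsIn (H : Set G), g * (u * v) * g⁻¹ = u' * t := by
  obtain ⟨γ, hγ, -⟩ := fixed_unique hS hu1 hu2
  have hne : v • γ ≠ γ := not_common_fixed hS h2 hu1 hu2 hv1 hv2 hx hγ
  obtain ⟨g₁, h1, h2'⟩ := exists_move hS (x := γ) (y := v • γ) (x' := a) (y' := t • a)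
    hne.symm (b_ne hS).symm
  obtain ⟨k, hk, hkv⟩ := exists_conj_t hS (w := g₁ * v * g₁⁻¹)
    (by rw [show g₁ * v * g₁⁻¹ * (g₁ * v * g₁⁻¹) = g₁ * (v * v) * g₁⁻¹ by group, hv2]; group)
    (by rw [← h2', ← h1, mul_smul, mul_smul, inv_smul_smul])
  refine ⟨k * g₁, k * g₁ * u * (k * g₁)⁻¹, (mem_involutions hS).2 ⟨?_, conj_mem_H hS ?_ hγ⟩, ?_⟩
  · rw [orderOf_conj]; exact orderOf_two_iff.2 ⟨hu2, hu1⟩
  · rw [mul_smul, h1]; exact hk.1
  · have : k * g₁ * v * (k * g₁)⁻¹ = t := by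
      calc k * g₁ * v * (k * g₁)⁻¹ = k * (g₁ * v * g₁⁻¹) * k⁻¹ := by group
        _ = t := by rw [hkv]; group
    calc k * g₁ * (u * v) * (k * g₁)⁻¹ = (k * g₁ * u * (k * g₁)⁻¹) * (k * g₁ * v * (k * g₁)⁻¹) := by
          group
      _ = _ := by rw [this]

theorem odd_centralizer {u v : G} (hu1 : u ≠ 1) (hu2 : u * u = 1) (hv1 : v ≠ 1) (hv2 : v * v = 1)
    (hx : u * v * (u * v) ≠ 1) : Odd (Nat.card ↥(Subgroup.centralizer ({u * v} : Set G))) := by
  by_contra hodd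
  rw [Nat.not_odd_iff_even] at hodd
  obtain ⟨z, hz, hzo⟩ := StronglyEmbedded.exists_involution_mem hodd
  rw [Subgroup.mem_centralizer_singleton_iff] at hz
  obtain ⟨c, hc, huniq⟩ := fixed_unique hS (ne_one hzo) (inv_sq_one hzo)
  have hxc : (u * v) • c = c := huniq _ (by
    show z • (u * v) • c = (u * v) • c
    rw [smul_smul, hz, mul_smul, hc])
  have huc : u • c ≠ c := by
    intro h
    refine not_common_fixed hS h2 hu1 hu2 hv1 hv2 hx h ?_
    rw [mul_smul] at hxc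
    exact smul_left_cancel u (hxc.trans h.symm)
  have hxd : (u * v) • u • c = u • c := by
    have h1 : (u * v) * u = u * (u * v)⁻¹ := by
      rw [mul_inv_rev, inv_eq_of_mul_eq_one_left hu2, inv_eq_of_mul_eq_one_left hv2, mul_assoc]
    rw [smul_smul, h1, mul_smul, inv_smul_eq_iff.2 hxc.symm]
  obtain ⟨g₁, h1, h2'⟩ := exists_move hS (x := c) (y := u • c) (x' := a) (y' := t • a)
    huc.symm (b_ne hS).symm
  obtain ⟨k, hk, hku⟩ := exists_conj_t hS (w := g₁ * u * g₁⁻¹)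
    (by rw [show g₁ * u * g₁⁻¹ * (g₁ * u * g₁⁻¹) = g₁ * (u * u) * g₁⁻¹ by group, hu2]; group)
    (by rw [← h2', ← h1, mul_smul, mul_smul, inv_smul_smul])
  set g := k * g₁ with hg
  have hga : g • c = a := by rw [hg, mul_smul, h1]; exact hk.1
  have hgb : g • u • c = t • a := by rw [hg, mul_smul, h2']; exact hk.2
  have hgu : g * u * g⁻¹ = t := by
    calc g * u * g⁻¹ = k * (g₁ * u * g₁⁻¹) * k⁻¹ := by rw [hg]; group
      _ = t := by rw [hku]; group
  set X := g * (u * v) * g⁻¹ with hX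
  have hXK : X ∈ Cfsg.invertedBy D t := by
    refine ⟨⟨conj_mem_H hS hga hxc, ?_⟩, ?_⟩
    · show X • (t • a) = t • a
      rw [hX, ← hgb, mul_smul, mul_smul, inv_smul_smul, hxd]
    · rw [hX, ← hgu]
      calc g * u * g⁻¹ * (g * (u * v) * g⁻¹) * (g * u * g⁻¹)⁻¹
          = g * ((u * u) * v * u⁻¹) * g⁻¹ := by group
        _ = g * (v⁻¹ * u⁻¹) * g⁻¹ := by
            rw [hu2, one_mul, inv_eq_of_mul_eq_one_left hv2]
        _ = _ := by group
  have hX1 : X ≠ 1 := by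
    intro h
    rw [hX, conj_eq_one_iff] at h
    exact hx (by rw [h, one_mul])
  have hzQ : g * z * g⁻¹ ∈ Q ⊓ Subgroup.centralizer ({X} : Set G) := by
    refine Subgroup.mem_inf.2 ⟨involution_mem hS (conj_mem_H hS hga hc) ?_,
      Subgroup.mem_centralizer_singleton_iff.2 ?_⟩
    · rw [show g * z * g⁻¹ * (g * z * g⁻¹) = g * (z * z) * g⁻¹ by group, inv_sq_one hzo]; group
    · rw [hX]
      calc g * z * g⁻¹ * (g * (u * v) * g⁻¹) = g * (z * (u * v)) * g⁻¹ := by group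
        _ = g * ((u * v) * z) * g⁻¹ := by rw [hz]
        _ = _ := by group
  rw [cent_Q_eq_one hS hXK hX1, Subgroup.mem_bot, conj_eq_one_iff] at hzQ
  exact ne_one hzo hzQ

end Cfsg.Agent.Involutions.RankOne
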