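import Mathlib
import Cfsg.Prelude.Def_LieRecognition

/-!
# An involution acting on a group of odd order: `X = C_X(t) · I_X(t)`
-/

set_option autoImplicit false
set_option linter.unusedSectionVars false

namespace Cfsg.Agent.Involutions.InvertedSet

variable {M : Type*} [Group M] [Finite M] {t : M} {X : Subgroup M}

theorem eq_of_mul_self (hodd : Odd (Nat.card X)) {x y : M} (hx : x ∈ X) (hy : y ∈ X)
    (h : x * x = y * y) : x = y := by
  have h1 : ∀ z ∈ X, z ^ Nat.card X = 1 := fun z hz =>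
    congrArg Subtype.val (pow_card_eq_one' (x := (⟨z, hz⟩ : X)))
  obtain ⟨m, hm⟩ := hodd
  have key : ∀ z ∈ X, z = (z * z) ^ (m + 1) := fun z hz => by
    rw [← sq, ← pow_mul, show 2 * (m + 1) = Nat.card X + 1 by omega, pow_succ, h1 z hz, one_mul]
  rw [key x hx, key y hy, h]

theorem eq_one_of_mul_self (hodd : Odd (Nat.card X)) {x : M} (hx : x ∈ X) (h : x * x = 1) : x = 1 :=
  eq_of_mul_self hodd hx X.one_mem (by rw [h, one_mul])

/-- The inverted part of `x`. -/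
theorem exists_decomp (hodd : Odd (Nat.card X)) (ht : t * t = 1)
    (hnorm : ∀ x ∈ X, t * x * t⁻¹ ∈ X) {x : M} (hx : x ∈ X) :
    ∃ c k : M, c ∈ X ∧ t * c * t⁻¹ = c ∧ k ∈ Cfsg.invertedBy X t ∧ x = c * k := by
  have ht' : t⁻¹ = t := inv_eq_of_mul_eq_one_left ht
  set z := (t * x * t⁻¹)⁻¹ * x with hz
  have hzX : z ∈ X := mul_mem (inv_mem (hnorm x hx)) hx
  have hzt : t * z * t⁻¹ = z⁻¹ := by
    rw [hz, ht']
    simp only [mul_inv_rev, inv_inv, ht', mul_assoc]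
    rw [← mul_assoc t t, ht, one_mul]
  have h1 : z ^ Nat.card X = 1 := congrArg Subtype.val (pow_card_eq_one' (x := (⟨z, hzX⟩ : X)))
  obtain ⟨m, hm⟩ := hodd
  set k := z ^ (m + 1) with hk
  have hkk : k * k = z := by
    rw [hk, ← pow_add, show m + 1 + (m + 1) = Nat.card X + 1 by omega, pow_succ, h1, one_mul]
  have hkt : t * k * t⁻¹ = k⁻¹ := by
    rw [hk, ← conj_pow, hzt, inv_pow]
  have hkX : k ∈ X := pow_mem hzX _
  refine ⟨x * k⁻¹, k, mul_mem hx (inv_mem hkX), ?_, ⟨hkX, hkt⟩,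
    (inv_mul_cancel_right x k).symm⟩
  have e2 : t * x * t⁻¹ = x * z⁻¹ := by rw [hz]; group
  calc t * (x * k⁻¹) * t⁻¹ = t * x * t⁻¹ * (t * k * t⁻¹)⁻¹ := by group
    _ = x * (k * k)⁻¹ * k⁻¹⁻¹ := by rw [hkt, e2, hkk]
    _ = x * k⁻¹ := by group

theorem unique_decomp (hodd : Odd (Nat.card X)) {c k c' k' : M} (hc : t * c * t⁻¹ = c)
    (hk : k ∈ Cfsg.invertedBy X t) (hc' : t * c' * t⁻¹ = c') (hk' : k' ∈ Cfsg.invertedBy X t)
    (h : c * k = c' * k') : c = c' ∧ k = k' := by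
  have h1 : t * (c * k) * t⁻¹ = c * k⁻¹ := by
    calc t * (c * k) * t⁻¹ = (t * c * t⁻¹) * (t * k * t⁻¹) := by group
      _ = c * k⁻¹ := by rw [hc, hk.2]
  have h2 : t * (c' * k') * t⁻¹ = c' * k'⁻¹ := by
    calc t * (c' * k') * t⁻¹ = (t * c' * t⁻¹) * (t * k' * t⁻¹) := by group
      _ = c' * k'⁻¹ := by rw [hc', hk'.2]
  have h3 : c * k⁻¹ = c' * k'⁻¹ := by rw [← h1, h, h2]
  have h4 : k * k = k' * k' := by
    calc k * k = (c * k⁻¹)⁻¹ * (c * k) := by group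
      _ = (c' * k'⁻¹)⁻¹ * (c' * k') := by rw [h3, h]
      _ = k' * k' := by group
  have h5 := eq_of_mul_self hodd hk.1 hk'.1 h4
  exact ⟨by rw [h5] at h; exact mul_right_cancel h, h5⟩

theorem mem_cent {c : M} :
    c ∈ Subgroup.centralizer ({t} : Set M) ↔ t * c * t⁻¹ = c := by
  rw [Subgroup.mem_centralizer_singleton_iff, mul_inv_eq_iff_eq_mul]
  exact eq_comm

theorem card_eq (hodd : Odd (Nat.card X)) (ht : t * t = 1) (hnorm : ∀ x ∈ X, t * x * t⁻¹ ∈ X) :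
    Nat.card X = Nat.card ↥(X ⊓ Subgroup.centralizer ({t} : Set M)) *
      Nat.card (Cfsg.invertedBy X t) := by
  rw [← Nat.card_prod]
  refine (Nat.card_eq_of_bijective
    (fun p : ↥(X ⊓ Subgroup.centralizer ({t} : Set M)) × Cfsg.invertedBy X t =>
      (⟨(p.1 : M) * p.2, mul_mem p.1.2.1 p.2.2.1⟩ : X)) ⟨?_, ?_⟩).symm
  · rintro ⟨c, k⟩ ⟨c', k'⟩ e
    obtain ⟨h1, h2⟩ := unique_decomp hodd (mem_cent.1 c.2.2) k.2 (mem_cent.1 c'.2.2) k'.2
      (congrArg Subtype.val e)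
    exact Prod.ext (Subtype.ext h1) (Subtype.ext h2)
  · rintro ⟨x, hx⟩
    obtain ⟨c, k, hc, hct, hk, rfl⟩ := exists_decomp hodd ht hnorm hx
    exact ⟨(⟨c, hc, mem_cent.2 hct⟩, ⟨k, hk⟩), rfl⟩

theorem closure_le : Subgroup.closure (Cfsg.invertedBy X t) ≤ X :=
  (Subgroup.closure_le _).2 fun _ h => h.1

theorem le_normalizer_closure (hodd : Odd (Nat.card X)) (ht : t * t = 1)
    (hnorm : ∀ x ∈ X, t * x * t⁻¹ ∈ X) :
    X ≤ Subgroup.normalizer (Subgroup.closure (Cfsg.invertedBy X t) : Set M) := by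
  rw [Subgroup.le_normalizer_iff]
  intro y hy z hz
  obtain ⟨c, k, hc, hct, hk, rfl⟩ := exists_decomp hodd ht hnorm hy
  set L := Subgroup.closure (Cfsg.invertedBy X t)
  have hkL : k ∈ L := Subgroup.subset_closure hk
  have hcL : ∀ w ∈ L, c * w * c⁻¹ ∈ L := by
    intro w hw
    have : L.map (MulAut.conj c).toMonoidHom ≤ L := by
      rw [MonoidHom.map_closure, Subgroup.closure_le]
      rintro _ ⟨v, hv, rfl⟩
      refine Subgroup.subset_closure ⟨mul_mem (mul_mem hc hv.1) (inv_mem hc), ?_⟩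
      show t * (c * v * c⁻¹) * t⁻¹ = (c * v * c⁻¹)⁻¹
      calc t * (c * v * c⁻¹) * t⁻¹ = (t * c * t⁻¹) * (t * v * t⁻¹) * (t * c * t⁻¹)⁻¹ := by group
        _ = (c * v * c⁻¹)⁻¹ := by rw [hct, hv.2]; group
    exact this ⟨w, hw, rfl⟩
  rw [show c * k * z * (c * k)⁻¹ = c * (k * z * k⁻¹) * c⁻¹ by group]
  exact hcL _ (mul_mem (mul_mem hkL hz) (inv_mem hkL))

end Cfsg.Agent.Involutions.InvertedSet
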