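import Cfsg.Agent.Lib.Involutions.RankOne.Basic
import Cfsg.Agent.Lib.Involutions.RankOne.InvertedSet

/-!
# Subsets of `D` fixing three points
-/

set_option autoImplicit false
set_option linter.unusedSectionVars false

namespace Cfsg.Agent.Involutions.RankOne

open MulAction Involutions.Basic

variable {G Ω : Type*} [Group G] [Finite G] [MulAction G Ω] {a : Ω} {t : G} {Q : Subgroup G}
variable (hS : Cfsg.IsRankOneSetup G Ω a t Q)

local notation "H" => MulAction.stabilizer G a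
local notation "D" => (MulAction.stabilizer G a ⊓ MulAction.stabilizer G (t • a))

omit [Finite G] in
theorem fix_of_centralizer {X : Set G} {g : G} (hg : g ∈ Subgroup.centralizer X) {c : Ω}
    (hc : ∀ x ∈ X, x • c = c) : ∀ x ∈ X, x • g • c = g • c := fun x hx => by
  rw [smul_smul, (Subgroup.mem_centralizer_iff.1 hg x hx), mul_smul, hc x hx]

include hS

/-- If `X ⊆ D` fixes `q • b` then `q` centralizes `X`. -/
theorem q_centralizes {X : Set G} (hX : X ⊆ (D : Set G)) {q : G} (hq : q ∈ Q)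
    (hfix : ∀ x ∈ X, x • q • (t • a) = q • (t • a)) : q ∈ Subgroup.centralizer X := by
  rw [Subgroup.mem_centralizer_iff]
  intro x hx
  have hxD := hX hx
  have h1 : x * q * x⁻¹ = q := by
    refine q_unique hS (hS.conj_mem x hxD.1 q hq) hq (b_ne hS) ?_
    conv_rhs => rw [← hfix x hx]
    rw [mul_smul, mul_smul, show x⁻¹ • (t • a) = t • a from inv_smul_eq_iff.2 hxD.2.symm]
  exact mul_inv_eq_iff_eq_mul.1 h1

/-- `C(X)` fixing one fixed point is transitive on the others. -/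
theorem exists_cent_move {X : Set G} {α β γ : Ω} (hα : ∀ x ∈ X, x • α = α)
    (hβ : ∀ x ∈ X, x • β = β) (hγ : ∀ x ∈ X, x • γ = γ) (hαβ : α ≠ β) (hαγ : α ≠ γ) :
    ∃ g ∈ Subgroup.centralizer X, g • α = α ∧ g • β = γ := by
  obtain ⟨g₀, h1, h2⟩ := exists_move hS hαβ (x' := a) (y' := t • a) (b_ne hS).symm
  set X' := (fun x => g₀ * x * g₀⁻¹) '' X
  have hX' : X' ⊆ (D : Set G) := by
    rintro _ ⟨x, hx, rfl⟩
    refine ⟨?_, ?_⟩
    · show (g₀ * x * g₀⁻¹) • a = a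
      rw [← h1, mul_smul, mul_smul, inv_smul_smul, hα x hx]
    · show (g₀ * x * g₀⁻¹) • (t • a) = t • a
      rw [← h2, mul_smul, mul_smul, inv_smul_smul, hβ x hx]
  have hne : g₀ • γ ≠ a := fun e => hαγ (smul_left_cancel g₀ (h1.trans e.symm))
  obtain ⟨q, hq, hqc⟩ := exists_q hS hne
  have hqC := q_centralizes hS hX' hq (by
    rintro _ ⟨x, hx, rfl⟩
    rw [hqc, mul_smul, mul_smul, inv_smul_smul, hγ x hx])
  refine ⟨g₀⁻¹ * q * g₀, ?_, ?_, ?_⟩
  · rw [Subgroup.mem_centralizer_iff]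
    intro x hx
    have h := Subgroup.mem_centralizer_iff.1 hqC _ ⟨x, hx, rfl⟩
    calc x * (g₀⁻¹ * q * g₀) = g₀⁻¹ * ((g₀ * x * g₀⁻¹) * q) * g₀ := by group
      _ = g₀⁻¹ * (q * (g₀ * x * g₀⁻¹)) * g₀ := by rw [h]
      _ = g₀⁻¹ * q * g₀ * x := by group
  · rw [mul_smul, mul_smul, h1, show q • a = a from hS.le hq, ← h1, inv_smul_smul]
  · rw [mul_smul, mul_smul, h2, hqc, inv_smul_smul]

/-- `C(X)` is doubly transitive on the fixed points of `X`. -/
theorem cent_two_transitive {X : Set G}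
    (h3 : ∃ b c d : Ω, b ≠ c ∧ b ≠ d ∧ c ≠ d ∧ ∀ x ∈ X, x • b = b ∧ x • c = c ∧ x • d = d)
    {b₁ b₂ c₁ c₂ : Ω} (hb₁ : ∀ x ∈ X, x • b₁ = b₁) (hb₂ : ∀ x ∈ X, x • b₂ = b₂)
    (hc₁ : ∀ x ∈ X, x • c₁ = c₁) (hc₂ : ∀ x ∈ X, x • c₂ = c₂) (hb : b₁ ≠ b₂) (hc : c₁ ≠ c₂) :
    ∃ g ∈ Subgroup.centralizer X, g • b₁ = c₁ ∧ g • b₂ = c₂ := by
  obtain ⟨g, hg, hg1⟩ : ∃ g ∈ Subgroup.centralizer X, g • b₁ = c₁ := by
    by_cases e : b₁ = c₁
    · exact ⟨1, one_mem _, by rw [one_smul, e]⟩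
    obtain ⟨u, v, w, huv, huw, hvw, hf⟩ := h3
    obtain ⟨z, hz, hz1, hz2⟩ : ∃ z : Ω, (∀ x ∈ X, x • z = z) ∧ z ≠ b₁ ∧ z ≠ c₁ := by
      by_cases hu : u = b₁ ∨ u = c₁
      · by_cases hv : v = b₁ ∨ v = c₁
        · exact ⟨w, fun x hx => (hf x hx).2.2, by grind, by grind⟩
        · exact ⟨v, fun x hx => (hf x hx).2.1, by tauto, by tauto⟩
      · exact ⟨u, fun x hx => (hf x hx).1, by tauto, by tauto⟩
    obtain ⟨g, hg, -, h⟩ := exists_cent_move hS hz hb₁ hc₁ hz1 hz2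
    exact ⟨g, hg, h⟩
  have hne : c₁ ≠ g • b₂ := fun e => hb (smul_left_cancel g (hg1.trans e))
  obtain ⟨g', hg', h1, h2⟩ :=
    exists_cent_move hS hc₁ (fix_of_centralizer hg hb₂) hc₂ hne hc
  exact ⟨g' * g, mul_mem hg' hg, by rw [mul_smul, hg1, h1], by rw [mul_smul, h2]⟩

/-- `C(X)` contains an involution interchanging `a` and `b`. -/
theorem exists_swap {X : Set G} (hX : X ⊆ (D : Set G))
    (h3 : ∃ b c d : Ω, b ≠ c ∧ b ≠ d ∧ c ≠ d ∧ ∀ x ∈ X, x • b = b ∧ x • c = c ∧ x • d = d) :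
    ∃ w ∈ Subgroup.centralizer X, w ≠ 1 ∧ w * w = 1 ∧ w • a = t • a ∧ w • (t • a) = a := by
  have hfa : ∀ x ∈ X, x • a = a := fun x hx => (hX hx).1
  have hfb : ∀ x ∈ X, x • (t • a) = t • a := fun x hx => (hX hx).2
  obtain ⟨g, hg, h1, h2⟩ := cent_two_transitive hS h3 hfa hfb hfb hfa (b_ne hS).symm (b_ne hS)
  obtain ⟨k, m, hm, hkm⟩ :=
    Nat.exists_eq_pow_mul_and_not_dvd (orderOf_pos g).ne' 2 (by norm_num)
  have hodd : Odd m := Nat.odd_iff.2 (Nat.two_dvd_ne_zero.1 hm)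
  set w := g ^ m with hw
  have hg2 : ∀ i : ℕ, (g * g) ^ i • a = a ∧ (g * g) ^ i • (t • a) = t • a := by
    intro i
    induction i with
    | zero => simp
    | succ i ih =>
      rw [pow_succ, mul_smul, mul_smul, mul_smul, h1, h2, mul_smul, h2, h1]
      exact ih
  obtain ⟨j, hj⟩ := hodd
  have hwa : w • a = t • a := by
    rw [hw, hj, pow_succ', pow_mul, sq, mul_smul, (hg2 j).1, h1]
  have hwb : w • (t • a) = a := by
    rw [hw, hj, pow_succ', pow_mul, sq, mul_smul, (hg2 j).2, h2]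
  have hw1 : w ≠ 1 := fun e => b_ne hS (by rw [← hwa, e, one_smul])
  have hwD : w * w ∈ D := by
    refine ⟨?_, ?_⟩
    · show (w * w) • a = a
      rw [mul_smul, hwa, hwb]
    · show (w * w) • (t • a) = t • a
      rw [mul_smul, hwb, hwa]
  have hww : w * w = 1 := by
    refine orderOf_eq_one_iff.1 (Nat.eq_one_of_dvd_coprimes (a := 2 ^ k) (b := Nat.card ↥D) ?_ ?_ ?_)
    · exact (Nat.coprime_two_left.2 hS.odd_card).pow_left k
    · refine orderOf_dvd_of_pow_eq_one ?_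
      rw [hw, ← pow_add, ← pow_mul, show (m + m) * 2 ^ k = orderOf g * 2 by rw [hkm]; ring, pow_mul,
        pow_orderOf_eq_one, one_pow]
    · have h := orderOf_dvd_natCard (⟨w * w, hwD⟩ : ↥D)
      rwa [Subgroup.orderOf_mk] at h
  exact ⟨w, pow_mem hg m, hw1, hww, hwa, hwb⟩

/-- `C(X) ∩ Q` has even order. -/
theorem even_cent {X : Set G} (hX : X ⊆ (D : Set G))
    (h3 : ∃ b c d : Ω, b ≠ c ∧ b ≠ d ∧ c ≠ d ∧ ∀ x ∈ X, x • b = b ∧ x • c = c ∧ x • d = d) :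
    Even (Nat.card ↥(Subgroup.centralizer X ⊓ Q)) := by
  obtain ⟨w, hw, hw1, hw2, hwa, hwb⟩ := exists_swap hS hX h3
  obtain ⟨γ, hγ, huniq⟩ := fixed_unique hS hw1 hw2
  have hγX : ∀ x ∈ X, x • γ = γ := fun x hx => huniq _ (fix_of_centralizer
    (X := ({w} : Set G)) (g := x) (by
      rw [Subgroup.mem_centralizer_singleton_iff]
      exact Subgroup.mem_centralizer_iff.1 hw x hx) (c := γ) (by simpa using hγ) w rfl)
  have hγa : γ ≠ a := fun e => b_ne hS (by rw [← hwa, ← e]; exact hγ)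
  obtain ⟨g, hg, h1, -⟩ := cent_two_transitive hS h3 hγX (fun x hx => (hX hx).1)
    (fun x hx => (hX hx).1) hγX hγa hγa.symm
  have hu : g * w * g⁻¹ ∈ Subgroup.centralizer X ⊓ Q := by
    refine Subgroup.mem_inf.2 ⟨mul_mem (mul_mem hg hw) (inv_mem hg), involution_mem hS ?_ ?_⟩
    · show (g * w * g⁻¹) • a = a
      rw [← h1, mul_smul, mul_smul, inv_smul_smul, hγ]
    · rw [show g * w * g⁻¹ * (g * w * g⁻¹) = g * (w * w) * g⁻¹ by group, hw2]; group
  have ho : orderOf (g * w * g⁻¹) = 2 := by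
    rw [orderOf_conj]; exact orderOf_two_iff.2 ⟨hw2, hw1⟩
  have h := orderOf_dvd_natCard (⟨_, hu⟩ : ↥(Subgroup.centralizer X ⊓ Q))
  rw [Subgroup.orderOf_mk, ho] at h
  exact even_iff_two_dvd.2 h

/-- `C_H(X) = C_Q(X) C_D(X)`. -/
theorem cent_decomp {X : Set G} (hX : X ⊆ (D : Set G)) :
    (Subgroup.centralizer X ⊓ Q) ⊔ (Subgroup.centralizer X ⊓ D) = Subgroup.centralizer X ⊓ H := by
  refine le_antisymm (sup_le (inf_le_inf_left _ hS.le) (inf_le_inf_left _ inf_le_left)) ?_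
  rintro h ⟨hC, hH⟩
  obtain ⟨q, hq, d, hd, rfl⟩ := exists_decomp hS hH
  have hqC : q ∈ Subgroup.centralizer X := by
    refine q_centralizes hS hX hq fun x hx => ?_
    have e : (q * d) • (t • a) = q • (t • a) := by rw [mul_smul, hd.2]
    rw [← e]
    exact fix_of_centralizer hC (fun y hy => (hX hy).2) x hx
  refine Subgroup.mul_mem_sup ⟨hqC, hq⟩ ⟨?_, hd⟩
  have := mul_mem (inv_mem hqC) hC
  rwa [inv_mul_cancel_left] at this

/-- Every involution swapping `a` and `b` is conjugate to `t` under `K`. -/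
theorem exists_conj_t {w : G} (hw2 : w * w = 1) (hwa : w • a = t • a) :
    ∃ k ∈ D, w = k⁻¹ * t * k := by
  have hk := mul_t_mem_K hS hw2 hwa
  set k₀ := t * w with hk0
  have h1 : k₀ ^ Nat.card ↥D = 1 :=
    congrArg Subtype.val (pow_card_eq_one' (x := (⟨k₀, hk.1⟩ : ↥D)))
  obtain ⟨m, hm⟩ := hS.odd_card
  refine ⟨k₀ ^ (m + 1), pow_mem hk.1 _, ?_⟩
  have hkk : k₀ ^ (m + 1) * k₀ ^ (m + 1) = k₀ := by
    rw [← pow_add, show m + 1 + (m + 1) = Nat.card ↥D + 1 by omega, pow_succ, h1, one_mul]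
  have hinv : t * k₀ ^ (m + 1) * t⁻¹ = (k₀ ^ (m + 1))⁻¹ := by rw [← conj_pow, hk.2, inv_pow]
  calc w = t * k₀ := by rw [hk0, ← mul_assoc, hS.mul_self, one_mul]
    _ = t * (k₀ ^ (m + 1) * k₀ ^ (m + 1)) := by rw [hkk]
    _ = (t * k₀ ^ (m + 1) * t⁻¹) * t * k₀ ^ (m + 1) := by group
    _ = _ := by rw [hinv]

/-- A non-identity element of `K` fixes only `a` and `b`. -/
theorem cent_Q_eq_one {x : G} (hx : x ∈ Cfsg.invertedBy D t) (hx1 : x ≠ 1) :
    Q ⊓ Subgroup.centralizer ({x} : Set G) = ⊥ := by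
  rw [Subgroup.eq_bot_iff_forall]
  rintro q ⟨hq, hqx⟩
  by_contra hq1
  have hqb : q • (t • a) ≠ t • a := fun e => b_ne hS (eq_a_of_fixed hS hq hq1 e)
  have h3 : ∃ b c d : Ω, b ≠ c ∧ b ≠ d ∧ c ≠ d ∧
      ∀ y ∈ ({x} : Set G), y • b = b ∧ y • c = c ∧ y • d = d := by
    refine ⟨a, t • a, q • (t • a), (b_ne hS).symm, (smul_a_ne hS (hS.le hq) (b_ne hS)).symm, hqb.symm,
      ?_⟩
    rintro y (rfl : y = x)
    exact ⟨hx.1.1, hx.1.2, fix_of_centralizer hqx (by rintro y' (rfl : y' = y); exact hx.1.2) y rfl⟩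
  obtain ⟨w, hw, hw1, hw2, hwa, hwb⟩ :=
    exists_swap hS (X := {x}) (by rintro y (rfl : y = x); exact hx.1) h3
  rw [Subgroup.mem_centralizer_singleton_iff] at hw
  have hk := mul_t_mem_K hS hw2 hwa
  set k₀ := t * w with hk0
  have hconj : k₀ * x * k₀⁻¹ = x⁻¹ := by
    rw [hk0, mul_inv_rev, inv_eq_of_mul_eq_one_left hw2, ← hx.2]
    calc t * w * x * (w * t⁻¹) = t * (w * x) * w * t⁻¹ := by group
      _ = t * (x * w) * w * t⁻¹ := by rw [hw]
      _ = t * x * (w * w) * t⁻¹ := by group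
      _ = t * x * t⁻¹ := by rw [hw2, mul_one]
  have hiter : ∀ i : ℕ, k₀ ^ (2 * i) * x * (k₀ ^ (2 * i))⁻¹ = x := by
    intro i
    induction i with
    | zero => simp
    | succ i ih =>
      calc k₀ ^ (2 * (i + 1)) * x * (k₀ ^ (2 * (i + 1)))⁻¹
          = k₀ * (k₀ * (k₀ ^ (2 * i) * x * (k₀ ^ (2 * i))⁻¹) * k₀⁻¹) * k₀⁻¹ := by
            rw [show 2 * (i + 1) = 1 + 1 + 2 * i by ring, pow_add, pow_add, pow_one]; group
        _ = k₀ * x⁻¹ * k₀⁻¹ := by rw [ih, hconj]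
        _ = (k₀ * x * k₀⁻¹)⁻¹ := by group
        _ = x := by rw [hconj, inv_inv]
  have h1 : k₀ ^ Nat.card ↥D = 1 :=
    congrArg Subtype.val (pow_card_eq_one' (x := (⟨k₀, hk.1⟩ : ↥D)))
  obtain ⟨m, hm⟩ := hS.odd_card
  have hx2 : x = x⁻¹ := by
    calc x = k₀ ^ Nat.card ↥D * x * (k₀ ^ Nat.card ↥D)⁻¹ := by rw [h1]; group
      _ = k₀ * (k₀ ^ (2 * m) * x * (k₀ ^ (2 * m))⁻¹) * k₀⁻¹ := by
          rw [hm, pow_succ']; group
      _ = x⁻¹ := by rw [hiter, hconj]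
  exact hx1 (InvertedSet.eq_one_of_mul_self hS.odd_card hx.1
    (mul_eq_one_iff_eq_inv.2 hx2))

/-- `C_D(t) = C_D(s)` for the involution `s` matched to `t`. -/
theorem cent_t_eq {s r : G} (hs : s ∈ Cfsg.involutionsIn (H : Set G)) (hr : r ∈ Q)
    (h : t * s * t = r⁻¹ * t * r) :
    D ⊓ Subgroup.centralizer ({t} : Set G) = D ⊓ Subgroup.centralizer ({s} : Set G) := by
  classical
  have hle : D ⊓ Subgroup.centralizer ({t} : Set G) ≤ D ⊓ Subgroup.centralizer ({s} : Set G) := by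
    intro d hd'
    obtain ⟨hd, hdt⟩ := Subgroup.mem_inf.1 hd'
    refine Subgroup.mem_inf.2 ⟨hd, ?_⟩
    rw [Subgroup.mem_centralizer_singleton_iff] at hdt
    rw [Subgroup.mem_centralizer_singleton_iff]
    set r' := d * r * d⁻¹ with hr'
    have hr'Q : r' ∈ Q := hS.conj_mem d hd.1 r hr
    have heq : t * (d * s * d⁻¹) * t = r'⁻¹ * t * r' := by
      have hdti : t * d⁻¹ = d⁻¹ * t := by
        calc t * d⁻¹ = d⁻¹ * (d * t) * d⁻¹ := by group
          _ = d⁻¹ * (t * d) * d⁻¹ := by rw [hdt]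
          _ = d⁻¹ * t := by group
      calc t * (d * s * d⁻¹) * t = (t * d) * s * (d⁻¹ * t) := by group
        _ = (d * t) * s * (t * d⁻¹) := by rw [hdt, hdti]
        _ = d * (t * s * t) * d⁻¹ := by group
        _ = d * (r⁻¹ * t * r) * d⁻¹ := by rw [h]
        _ = r'⁻¹ * (d * t * d⁻¹) * r' := by rw [hr']; group
        _ = r'⁻¹ * t * r' := by rw [hdt, mul_inv_cancel_right]
    -- both `r`, `r'` move `b` to the fixed point of `t`
    obtain ⟨γ, -, huniq⟩ := fixed_unique hS hS.ne_one hS.mul_self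
    have key : ∀ (u v : G), u ∈ Cfsg.involutionsIn (H : Set G) → t * u * t = v⁻¹ * t * v →
        v • (t • a) = γ := by
      intro u v hu huv
      refine huniq _ ?_
      have h1 : (v⁻¹ * t * v) • (t • a) = t • a := by
        rw [← huv, mul_smul, mul_smul, t_smul_b hS, show u • a = a from hu.1]
      rwa [mul_smul, mul_smul, inv_smul_eq_iff] at h1
    have hrr : r' = r := q_unique hS hr'Q hr (b_ne hS)
      ((key _ _ (conj_mem_involutions hS hs hd.1) heq).trans (key _ _ hs h).symm)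
    rw [hrr, ← h] at heq
    exact mul_inv_eq_iff_eq_mul.1 (mul_left_cancel (mul_right_cancel heq))
  refine le_antisymm hle (le_of_eq (Subgroup.eq_of_le_of_card_ge hle (le_of_eq ?_)).symm)
  have hK : 0 < Nat.card (Cfsg.invertedBy D t) :=
    Nat.card_pos_iff.2 ⟨⟨⟨1, one_mem_K hS⟩⟩, Subtype.finite⟩
  refine Nat.eq_of_mul_eq_mul_right hK (Eq.trans ?_
    (InvertedSet.card_eq hS.odd_card hS.mul_self (fun x hx => t_conj_mem_D hS hx)))
  rw [← Nat.card_prod]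
  refine Nat.card_eq_of_bijective (fun p : ↥(D ⊓ Subgroup.centralizer ({s} : Set G)) ×
    Cfsg.invertedBy D t => (⟨(p.2 : G) * p.1, mul_mem p.2.2.1 p.1.2.1⟩ : ↥D)) ⟨?_, ?_⟩
  · rintro ⟨c, k⟩ ⟨c', k'⟩ e
    have e' : (k : G) * c = k' * c' := congrArg Subtype.val e
    have hconj : ∀ (k c : G), c ∈ Subgroup.centralizer ({s} : Set G) →
        k * c * s * (k * c)⁻¹ = k * s * k⁻¹ := fun k c hc => by
      rw [show k * c * s * (k * c)⁻¹ = k * (c * s) * c⁻¹ * k⁻¹ by group,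
        Subgroup.mem_centralizer_singleton_iff.1 hc]
      group
    have h1 : (k : G) = k' := K_conj_injective hS hs k.2 k'.2
      (by rw [← hconj k c c.2.2, e', hconj k' c' c'.2.2])
    rw [h1] at e'
    exact Prod.ext (Subtype.ext (mul_left_cancel e')) (Subtype.ext h1)
  · rintro ⟨d, hd⟩
    obtain ⟨k, hk, hks⟩ := exists_K hS hs (conj_mem_involutions hS hs (Subgroup.mem_inf.1 hd).1)
    refine ⟨(⟨k⁻¹ * d, Subgroup.mem_inf.2 ⟨mul_mem (inv_mem hk.1) hd, ?_⟩⟩, ⟨k, hk⟩),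
      Subtype.ext (mul_inv_cancel_left k d)⟩
    rw [Subgroup.mem_centralizer_singleton_iff]
    calc k⁻¹ * d * s = k⁻¹ * (d * s * d⁻¹) * d := by group
      _ = k⁻¹ * (k * s * k⁻¹) * d := by rw [hks]
      _ = s * (k⁻¹ * d) := by group

/-- The matched pair of `t`. -/
theorem exists_pair : ∃! p : G × G, p.1 ∈ Cfsg.involutionsIn (H : Set G) ∧ p.2 ∈ Q ∧
    t * p.1 * t = p.2⁻¹ * t * p.2 := by
  obtain ⟨γ, hγ, huniq⟩ := fixed_unique hS hS.ne_one hS.mul_self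
  have hγa : γ ≠ a := fun e => b_ne hS (by rw [← e]; exact (congrArg (t • ·) rfl).trans hγ)
  obtain ⟨r, hr, hrb⟩ := exists_q hS hγa
  refine ⟨(t * (r⁻¹ * t * r) * t, r), ⟨⟨?_, ?_, ?_⟩, hr, ?_⟩, ?_⟩
  · show (t * (r⁻¹ * t * r) * t) • a = a
    rw [mul_smul, mul_smul, mul_smul, mul_smul, hrb, hγ, ← hrb, inv_smul_smul, t_smul_b hS]
  · intro e
    refine hS.ne_one ?_
    calc t = r * (t⁻¹ * (t * (r⁻¹ * t * r) * t) * t⁻¹) * r⁻¹ := by group
      _ = 1 := by rw [show t * (r⁻¹ * t * r) * t = 1 from e, t_inv hS, mul_one, hS.mul_self]; group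
  · have ht : ∀ x, t * (t * x) = x := fun x => by rw [← mul_assoc, hS.mul_self, one_mul]
    show t * (r⁻¹ * t * r) * t * (t * (r⁻¹ * t * r) * t) = 1
    simp [mul_assoc, ht, hS.mul_self]
  · show t * (t * (r⁻¹ * t * r) * t) * t = r⁻¹ * t * r
    calc t * (t * (r⁻¹ * t * r) * t) * t = (t * t) * (r⁻¹ * t * r) * (t * t) := by group
      _ = _ := by rw [hS.mul_self]; group
  · rintro ⟨s', r'⟩ ⟨hs', hr', h'⟩
    simp only at hs' hr' h'
    have h1 : r' • (t • a) = γ := by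
      refine huniq _ ?_
      have h1 : (r'⁻¹ * t * r') • (t • a) = t • a := by
        rw [← h', mul_smul, mul_smul, t_smul_b hS, show s' • a = a from hs'.1]
      rwa [mul_smul, mul_smul, inv_smul_eq_iff] at h1
    have h2 : r' = r := q_unique hS hr' hr (b_ne hS) (h1.trans hrb.symm)
    subst h2
    refine Prod.ext ?_ rfl
    show s' = t * (r'⁻¹ * t * r') * t
    rw [← h']
    calc s' = (t * t) * s' * (t * t) := by rw [hS.mul_self, one_mul, mul_one]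
      _ = _ := by group

end Cfsg.Agent.Involutions.RankOne
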