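import Cfsg.Agent.Lib.Involutions.RankOne.Fix

/-!
# Fusion in `V = C_D(t)`
-/

set_option autoImplicit false
set_option linter.unusedSectionVars false

namespace Cfsg.Agent.Involutions.RankOne

open MulAction Involutions.Basic

variable {G Ω : Type*} [Group G] [Finite G] [MulAction G Ω] {a : Ω} {t : G} {Q : Subgroup G}
variable (hS : Cfsg.IsRankOneSetup G Ω a t Q)

local notation "D" => (MulAction.stabilizer G a ⊓ MulAction.stabilizer G (t • a))

include hS

theorem fusion_V {X : Set G}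
    (hX : X ⊆ ((D ⊓ Subgroup.centralizer ({t} : Set G) : Subgroup G) : Set G)) {g : G}
    (hY : (fun x => g * x * g⁻¹) '' X ⊆
      ((D ⊓ Subgroup.centralizer ({t} : Set G) : Subgroup G) : Set G)) :
    ∃ v ∈ D ⊓ Subgroup.centralizer ({t} : Set G),
      (fun x => v * x * v⁻¹) '' X = (fun x => g * x * g⁻¹) '' X := by
  set Y := (fun x => g * x * g⁻¹) '' X with hYdef
  obtain ⟨γ, hγ, huniq⟩ := fixed_unique hS hS.ne_one hS.mul_self
  have hfix : ∀ y ∈ Y, y • γ = γ := fun y hy => huniq _ (by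
    show t • y • γ = y • γ
    rw [smul_smul, ← Subgroup.mem_centralizer_singleton_iff.1 (hY hy).2, mul_smul, hγ])
  have hγa : γ ≠ a := fun e => hS.not_mem (e ▸ hγ)
  have hγb : γ ≠ t • a := fun e => b_ne hS (by
    calc t • a = t • γ := by rw [hγ, e]
      _ = a := by rw [e, t_smul_b hS])
  have hga : ∀ y ∈ Y, y • g • a = g • a := by
    rintro _ ⟨x, hx, rfl⟩
    rw [smul_smul, inv_mul_cancel_right, mul_smul, show x • a = a from (hX hx).1.1]
  have hgb : ∀ y ∈ Y, y • g • (t • a) = g • (t • a) := by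
    rintro _ ⟨x, hx, rfl⟩
    rw [smul_smul (g * x * g⁻¹), inv_mul_cancel_right, mul_smul,
      show x • (t • a) = t • a from (hX hx).1.2]
  obtain ⟨h, hh, h1, h2⟩ := cent_two_transitive hS (X := Y)
    ⟨a, t • a, γ, (b_ne hS).symm, hγa.symm, hγb.symm, fun y hy =>
      ⟨(hY hy).1.1, (hY hy).1.2, hfix y hy⟩⟩
    hga hgb (fun y hy => (hY hy).1.1) (fun y hy => (hY hy).1.2)
    (fun e => b_ne hS (smul_left_cancel g e).symm) (b_ne hS).symm
  have hd : h * g ∈ D := ⟨by show (h * g) • a = a; rw [mul_smul, h1],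
    by show (h * g) • (t • a) = t • a; rw [mul_smul, h2]⟩
  obtain ⟨c, k, hc, hct, hk, he⟩ :=
    InvertedSet.exists_decomp hS.odd_card hS.mul_self (fun x hx => t_conj_mem_D hS hx) hd
  have hcV : c ∈ D ⊓ Subgroup.centralizer ({t} : Set G) := Subgroup.mem_inf.2 ⟨hc,
    Subgroup.mem_centralizer_singleton_iff.2 (mul_inv_eq_iff_eq_mul.1 hct).symm⟩
  refine ⟨c, hcV, Set.image_congr fun x hx => ?_⟩
  set y := g * x * g⁻¹ with hy
  have hyY : y ∈ Y := ⟨x, hx, rfl⟩
  have hcomm : ∀ {z : G}, z ∈ D ⊓ Subgroup.centralizer ({t} : Set G) → t * z * t⁻¹ = z :=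
    fun {z} hz => mul_inv_eq_iff_eq_mul.2 (Subgroup.mem_centralizer_singleton_iff.1 hz.2).symm
  have hy' : c * (k * x * k⁻¹) * c⁻¹ = y := by
    calc c * (k * x * k⁻¹) * c⁻¹ = (h * g) * x * (h * g)⁻¹ := by rw [he]; group
      _ = h * y * h⁻¹ := by rw [hy]; group
      _ = y := by rw [← Subgroup.mem_centralizer_iff.1 hh y hyY, mul_inv_cancel_right]
  have hkx : k * x * k⁻¹ = k⁻¹ * x * k := by
    have e1 : k * x * k⁻¹ = c⁻¹ * y * c := by rw [← hy']; group
    calc k * x * k⁻¹ = t * (k * x * k⁻¹) * t⁻¹ := by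
          rw [e1]
          conv_lhs => rw [← hcomm (mul_mem (mul_mem (inv_mem hcV) (hY hyY)) hcV)]
      _ = (t * k * t⁻¹) * (t * x * t⁻¹) * (t * k * t⁻¹)⁻¹ := by group
      _ = k⁻¹ * x * k := by rw [hk.2, hcomm (hX hx)]; group
  have hk2 : k * k * x = x * (k * k) := by
    calc k * k * x = k * (k * x * k⁻¹) * k := by group
      _ = k * (k⁻¹ * x * k) * k := by rw [hkx]
      _ = x * (k * k) := by group
  have hkc : k * x * k⁻¹ = x := by
    obtain ⟨m, hm⟩ := hS.odd_card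
    have h1 : k ^ Nat.card ↥D = 1 :=
      congrArg Subtype.val (pow_card_eq_one' (x := (⟨k, hk.1⟩ : ↥D)))
    have hpow : (k * k) ^ (m + 1) = k := by
      rw [← sq, ← pow_mul, show 2 * (m + 1) = Nat.card ↥D + 1 by omega, pow_succ, h1, one_mul]
    have h3 : Commute k x := hpow ▸ (show Commute (k * k) x from hk2).pow_left (m + 1)
    rw [h3.eq, mul_inv_cancel_right]
  show c * x * c⁻¹ = g * x * g⁻¹
  rw [← hy, ← hy', hkc]

end Cfsg.Agent.Involutions.RankOne
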