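import Mathlib
import Cfsg.Prelude.Def_LieRecognition
import Cfsg.Agent.Lib.Involutions.StronglyEmbedded

/-!
# The split rank-one set-up: regularity, strong embedding, involutions

`H = G_a`, `b = t • a`, `D = G_a ∩ G_b`, `Q` regular on the points other than `a`.
-/

set_option autoImplicit false
set_option linter.unusedSectionVars false

namespace Cfsg.Agent.Involutions.RankOne

open MulAction Involutions.Basic

variable {G Ω : Type*} [Group G] [Finite G] [MulAction G Ω] {a : Ω} {t : G} {Q : Subgroup G}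
variable (hS : Cfsg.IsRankOneSetup G Ω a t Q)

local notation "H" => MulAction.stabilizer G a
local notation "D" => (MulAction.stabilizer G a ⊓ MulAction.stabilizer G (t • a))

include hS

theorem t_inv : t⁻¹ = t := inv_eq_of_mul_eq_one_left hS.mul_self

theorem t_order : orderOf t = 2 := orderOf_two_iff.2 ⟨hS.mul_self, hS.ne_one⟩

theorem t_smul_b : t • (t • a) = a := by rw [smul_smul, hS.mul_self, one_smul]

theorem b_ne : t • a ≠ a := fun h => hS.not_mem h

/-- Double transitivity. -/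
theorem exists_move {x y x' y' : Ω} (h : x ≠ y) (h' : x' ≠ y') :
    ∃ g : G, g • x = x' ∧ g • y = y' :=
  (MulAction.is_two_pretransitive_iff.mp hS.two_transitive) h h'

omit hS in
theorem mem_D {x : G} : x ∈ D ↔ x • a = a ∧ x • (t • a) = t • a := Iff.rfl

theorem t_conj_mem_D {d : G} (hd : d ∈ D) : t * d * t⁻¹ ∈ D := by
  rw [t_inv hS]
  refine ⟨?_, ?_⟩
  · show (t * d * t) • a = a
    rw [mul_smul, mul_smul, hd.2, t_smul_b hS]
  · show (t * d * t) • (t • a) = t • a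
    rw [mul_smul, mul_smul, t_smul_b hS, hd.1]

theorem exists_decomp {h : G} (hh : h ∈ H) : ∃ q ∈ Q, ∃ d ∈ D, h = q * d := by
  have hn : D ≤ Subgroup.normalizer (Q : Set G) := by
    rw [Subgroup.le_normalizer_iff]
    exact fun d hd => hS.conj_mem d hd.1
  rw [← hS.sup_eq, ← SetLike.mem_coe, Subgroup.coe_mul_of_right_le_normalizer_left Q D hn] at hh
  obtain ⟨q, hq, d, hd, rfl⟩ := hh
  exact ⟨q, hq, d, hd, rfl⟩

theorem inf_D {x : G} (hx : x ∈ Q) (hxD : x ∈ D) : x = 1 :=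
  Subgroup.mem_bot.1 (hS.inf_eq_bot ▸ ⟨hx, hxD.2⟩)

theorem eq_of_decomp {q q' d d' : G} (hq : q ∈ Q) (hq' : q' ∈ Q) (hd : d ∈ D) (hd' : d' ∈ D)
    (h : q * d = q' * d') : q = q' ∧ d = d' := by
  have h1 : q'⁻¹ * q = d' * d⁻¹ := by
    rw [eq_mul_inv_iff_mul_eq, mul_assoc, h, inv_mul_cancel_left]
  have h2 : q'⁻¹ * q = 1 :=
    inf_D hS (mul_mem (inv_mem hq') hq) (h1 ▸ mul_mem hd' (inv_mem hd))
  refine ⟨(inv_mul_eq_one.1 h2).symm, ?_⟩
  rw [h1, mul_inv_eq_one] at h2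
  exact h2.symm

theorem smul_a_ne {h : G} (hh : h ∈ H) {c : Ω} (hc : c ≠ a) : h • c ≠ a := fun e =>
  hc (smul_left_cancel h (e.trans (show a = h • a from hh.symm)))

/-- `Q` is transitive on the points other than `a`. -/
theorem exists_q {c : Ω} (hc : c ≠ a) : ∃ q ∈ Q, q • (t • a) = c := by
  obtain ⟨h, h1, h2⟩ := exists_move hS (x := a) (y := t • a) (x' := a) (y' := c)
    (b_ne hS).symm hc.symm
  obtain ⟨q, hq, d, hd, rfl⟩ := exists_decomp hS (show h ∈ H from h1)
  exact ⟨q, hq, by rw [mul_smul, hd.2] at h2; exact h2⟩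

/-- A non-identity element of `Q` fixes only `a`. -/
theorem eq_a_of_fixed {x : G} (hx : x ∈ Q) (hx1 : x ≠ 1) {c : Ω} (hc : x • c = c) : c = a := by
  by_contra hne
  obtain ⟨q, hq, rfl⟩ := exists_q hS hne
  refine hx1 ?_
  have h1 : q⁻¹ * x * q = 1 := by
    refine Subgroup.mem_bot.1 (hS.inf_eq_bot ▸
      Subgroup.mem_inf.2 ⟨Q.mul_mem (Q.mul_mem (Q.inv_mem hq) hx) hq, ?_⟩)
    show (q⁻¹ * x * q) • (t • a) = t • a
    rw [mul_smul, mul_smul, hc, inv_smul_smul]
  rw [mul_eq_one_iff_eq_inv] at h1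
  exact mul_left_cancel (a := q⁻¹) (by rw [h1, mul_one])

theorem q_unique {q q' : G} (hq : q ∈ Q) (hq' : q' ∈ Q) {c : Ω} (hc : c ≠ a)
    (h : q • c = q' • c) : q = q' := by
  by_contra hne
  refine hc (eq_a_of_fixed hS (mul_mem (inv_mem hq') hq) (fun e => hne (inv_mul_eq_one.1 e).symm) ?_)
  rw [mul_smul, h, inv_smul_smul]

theorem exists_ne_one : ∃ x ∈ Q, x ≠ 1 := by
  by_contra h
  push Not at h
  have : Nat.card Q = 1 := by
    rw [Subgroup.card_eq_one, Subgroup.eq_bot_iff_forall]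
    exact h
  exact absurd hS.even_card (by rw [this]; decide)

/-- Every point is `a` or `q • b`. -/
theorem exists_smul_a (c : Ω) : ∃ g : G, g • a = c := by
  by_cases hc : c = a
  · exact ⟨1, by rw [one_smul, hc]⟩
  · obtain ⟨q, -, hq⟩ := exists_q hS hc
    exact ⟨q * t, by rw [mul_smul, hq]⟩

theorem finite_points : Finite Ω :=
  Finite.of_surjective (fun g : G => g • a) (exists_smul_a hS)

theorem pretransitive : MulAction.IsPretransitive G Ω := by
  refine ⟨fun x y => ?_⟩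
  obtain ⟨g, rfl⟩ := exists_smul_a hS x
  obtain ⟨g', rfl⟩ := exists_smul_a hS y
  exact ⟨g' * g⁻¹, by rw [mul_smul, inv_smul_smul]⟩

theorem card_points : Nat.card Ω = Nat.card Q + 1 := by
  classical
  haveI := finite_points hS
  have h : Nat.card Q = Nat.card {c : Ω // c ≠ a} := by
    refine Nat.card_eq_of_bijective (fun q : Q => ⟨(q : G) • (t • a),
      smul_a_ne hS (hS.le q.2) (b_ne hS)⟩) ⟨fun q q' e => ?_, fun ⟨c, hc⟩ => ?_⟩
    · exact Subtype.ext (q_unique hS q.2 q'.2 (b_ne hS) (congrArg Subtype.val e))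
    · obtain ⟨q, hq, rfl⟩ := exists_q hS hc
      exact ⟨⟨q, hq⟩, rfl⟩
  rw [h, ← Finite.card_option]
  exact Nat.card_congr (Equiv.optionSubtypeNe a).symm

theorem card_stabilizer : Nat.card H = Nat.card Q * Nat.card ↥D := by
  rw [← Nat.card_prod]
  refine (Nat.card_eq_of_bijective (fun p : ↥Q × ↥D => (⟨(p.1 : G) * p.2,
    mul_mem (hS.le p.1.2) (Subgroup.mem_inf.1 p.2.2).1⟩ : H)) ⟨?_, ?_⟩).symm
  · rintro ⟨q, d⟩ ⟨q', d'⟩ e
    obtain ⟨h1, h2⟩ := eq_of_decomp hS q.2 q'.2 d.2 d'.2 (congrArg Subtype.val e)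
    exact Prod.ext (Subtype.ext h1) (Subtype.ext h2)
  · rintro ⟨h, hh⟩
    obtain ⟨q, hq, d, hd, rfl⟩ := exists_decomp hS hh
    exact ⟨(⟨q, hq⟩, ⟨d, hd⟩), rfl⟩

theorem card_group : Nat.card G = Nat.card Q * Nat.card ↥D * (Nat.card Q + 1) := by
  haveI := pretransitive hS
  rw [← Subgroup.card_mul_index H, MulAction.index_stabilizer_of_transitive G a, card_stabilizer hS,
    card_points hS]

/-- The point stabilizer is strongly embedded. -/
theorem stronglyEmbedded : Cfsg.IsStronglyEmbedded H := by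
  refine ⟨fun h => hS.not_mem (h ▸ Subgroup.mem_top t), ?_, fun g hg => ?_⟩
  · rw [card_stabilizer hS]
    exact hS.even_card.mul_right _
  obtain ⟨h, h1, h2⟩ := exists_move hS (x := a) (y := t • a) (x' := a) (y' := g • a)
    (b_ne hS).symm (Ne.symm hg)
  have hmap : H ⊓ Subgroup.map (MulAut.conj g).toMonoidHom H = Subgroup.map (MulAut.conj h).toMonoidHom D := by
    ext x
    simp only [Subgroup.mem_inf, Subgroup.mem_map_equiv, MulAut.conj_symm_apply,
      MulAction.mem_stabilizer_iff, mul_smul, inv_smul_eq_iff, h1, h2]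
  rw [hmap, Subgroup.card_map_of_injective (MulAut.conj h).injective]
  exact hS.odd_card

/-- Every involution of `G_a` lies in `Q`. -/
theorem involution_mem {s : G} (hs : s ∈ H) (h2 : s * s = 1) : s ∈ Q := by
  obtain ⟨q, hq, d, hd, rfl⟩ := exists_decomp hS hs
  have h1 : d * d = (q * (d * q * d⁻¹))⁻¹ := by
    rw [eq_inv_iff_mul_eq_one]
    have h3 : q * (d * q * d⁻¹) * (d * d) = 1 := by
      rw [← h2]; group
    exact mul_eq_one_comm.1 h3
  have hd2 : d * d = 1 :=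
    inf_D hS (h1 ▸ inv_mem (mul_mem hq (hS.conj_mem d hd.1 q hq))) (mul_mem hd hd)
  have : d = 1 := by
    by_contra hd1
    have ho : orderOf d = 2 := orderOf_two_iff.2 ⟨hd2, hd1⟩
    have hdvd : orderOf (⟨d, hd⟩ : ↥D) ∣ Nat.card ↥D := orderOf_dvd_natCard _
    rw [Subgroup.orderOf_mk, ho] at hdvd
    exact Nat.not_even_iff_odd.2 hS.odd_card (even_iff_two_dvd.2 hdvd)
  rwa [this, mul_one]

/-- An involution fixes exactly one point. -/
theorem fixed_unique {i : G} (hi : i ≠ 1) (hi2 : i * i = 1) : ∃! c : Ω, i • c = c := by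
  have hH := stronglyEmbedded hS
  obtain ⟨s, hsH, hs⟩ := StronglyEmbedded.exists_involution_mem hH.2.1
  obtain ⟨g, rfl⟩ := isConj_iff.1
    (StronglyEmbedded.isConj_involutions hH hs (orderOf_two_iff.2 ⟨hi2, hi⟩))
  have hsQ := involution_mem hS hsH (inv_sq_one hs)
  refine ⟨g • a, ?_, fun c hc => ?_⟩
  · show (g * s * g⁻¹) • g • a = g • a
    rw [mul_smul, mul_smul, inv_smul_smul, show s • a = a from hsH]
  · have h1 : s • (g⁻¹ • c) = g⁻¹ • c := by
      conv_rhs => rw [← hc]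
      rw [mul_smul, mul_smul, inv_smul_smul]
    rw [← eq_a_of_fixed hS hsQ (ne_one hs) h1, smul_inv_smul]

/-! ### `K`, the elements of `D` inverted by `t` -/

theorem mul_t_mem_K {i : G} (hi2 : i * i = 1) (hia : i • a = t • a) :
    t * i ∈ Cfsg.invertedBy D t := by
  refine ⟨⟨?_, ?_⟩, ?_⟩
  · show (t * i) • a = a
    rw [mul_smul, hia, t_smul_b hS]
  · show (t * i) • (t • a) = t • a
    rw [mul_smul, ← hia, smul_smul i i, hi2, one_smul]
    exact hia.symm
  · rw [t_inv hS, mul_inv_rev, t_inv hS, inv_eq_of_mul_eq_one_left hi2, ← mul_assoc, hS.mul_self,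
      one_mul]

theorem swap_of_K {k : G} (hk : k ∈ Cfsg.invertedBy D t) :
    (t * k) * (t * k) = 1 ∧ t * k ≠ 1 ∧ (t * k) • a = t • a := by
  obtain ⟨hkD, hkt⟩ := hk
  rw [t_inv hS] at hkt
  have h3 : (t * k) • a = t • a := by rw [mul_smul, hkD.1]
  refine ⟨?_, fun e => b_ne hS ?_, h3⟩
  · rw [← mul_assoc, hkt, inv_mul_cancel]
  · rw [← h3, e, one_smul]

theorem K_inv {k : G} (hk : k ∈ Cfsg.invertedBy D t) : k⁻¹ ∈ Cfsg.invertedBy D t := by
  refine ⟨inv_mem hk.1, ?_⟩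
  rw [show t * k⁻¹ * t⁻¹ = (t * k * t⁻¹)⁻¹ by group, hk.2]

theorem one_mem_K : (1 : G) ∈ Cfsg.invertedBy D t := ⟨one_mem _, by simp⟩

theorem mem_involutions {s : G} : s ∈ Cfsg.involutionsIn (H : Set G) ↔ orderOf s = 2 ∧ s ∈ H := by
  rw [orderOf_two_iff]
  exact ⟨fun h => ⟨⟨h.2.2, h.2.1⟩, h.1⟩, fun h => ⟨h.2, h.1.2, h.1.1⟩⟩

theorem card_K : Nat.card (Cfsg.invertedBy D t) = Nat.card (Cfsg.involutionsIn (H : Set G)) := by
  set o : G ⧸ H := ((1 : G) : G ⧸ H) with ho
  have hiff : ∀ i : G, i • o = t • o ↔ i • a = t • a := fun i => by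
    show ((i * 1 : G) : G ⧸ H) = ((t * 1 : G) : G ⧸ H) ↔ _
    rw [mul_one, mul_one, QuotientGroup.eq]
    show (i⁻¹ * t) • a = a ↔ _
    rw [mul_smul, inv_smul_eq_iff, eq_comm]
  have hot : o ≠ t • o := by
    intro e
    have h1 : (1 : G) • o = t • o := by rw [one_smul]; exact e
    rw [hiff, one_smul] at h1
    exact b_ne hS h1.symm
  have h1 : Nat.card (Cfsg.invertedBy D t) = Nat.card {i : G // orderOf i = 2 ∧ i • o = t • o} := by
    refine Nat.card_congr
      { toFun := fun k => ⟨t * k, orderOf_two_iff.2 ⟨(swap_of_K hS k.2).1, (swap_of_K hS k.2).2.1⟩,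
          (hiff _).2 (swap_of_K hS k.2).2.2⟩
        invFun := fun i => ⟨t * i, mul_t_mem_K hS (inv_sq_one i.2.1) ((hiff _).1 i.2.2)⟩
        left_inv := fun k => Subtype.ext (show t * (t * (k : G)) = k by
          rw [← mul_assoc, hS.mul_self, one_mul])
        right_inv := fun i => Subtype.ext (show t * (t * (i : G)) = i by
          rw [← mul_assoc, hS.mul_self, one_mul]) }
  rw [h1, StronglyEmbedded.card_swap (stronglyEmbedded hS) o (t • o) hot]
  exact Nat.card_congr (Equiv.subtypeEquivRight fun s => (mem_involutions hS).symm)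

theorem K_conj_injective {s k k' : G} (hs : s ∈ Cfsg.involutionsIn (H : Set G))
    (hk : k ∈ Cfsg.invertedBy D t) (hk' : k' ∈ Cfsg.invertedBy D t)
    (h : k * s * k⁻¹ = k' * s * k'⁻¹) : k = k' := by
  obtain ⟨hs2, hsH⟩ := (mem_involutions hS).1 hs
  obtain ⟨a1, a2, a3⟩ := swap_of_K hS hk
  obtain ⟨b1, b2, -⟩ := swap_of_K hS hk'
  have he := StronglyEmbedded.swap_map_injective (stronglyEmbedded hS) (u := t) hs2 hsH
    (orderOf_two_iff.2 ⟨a1, a2⟩) (fun hm => b_ne hS (a3.symm.trans hm))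
    (orderOf_two_iff.2 ⟨b1, b2⟩) (by simpa only [← mul_assoc, hS.mul_self, one_mul] using h)
  exact mul_left_cancel he

theorem conj_mem_involutions {s g : G} (hs : s ∈ Cfsg.involutionsIn (H : Set G)) (hg : g ∈ H) :
    g * s * g⁻¹ ∈ Cfsg.involutionsIn (H : Set G) := by
  obtain ⟨hs2, hsH⟩ := (mem_involutions hS).1 hs
  exact (mem_involutions hS).2 ⟨by rw [orderOf_conj, hs2], mul_mem (mul_mem hg hsH) (inv_mem hg)⟩

/-- `K` moves an involution of `G_a` to every other one. -/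
theorem exists_K {s s' : G} (hs : s ∈ Cfsg.involutionsIn (H : Set G))
    (hs' : s' ∈ Cfsg.involutionsIn (H : Set G)) :
    ∃ k ∈ Cfsg.invertedBy D t, k * s * k⁻¹ = s' := by
  let f : Cfsg.invertedBy D t → Cfsg.involutionsIn (H : Set G) := fun k =>
    ⟨(k : G) * s * (k : G)⁻¹, conj_mem_involutions hS hs k.2.1.1⟩
  have hf : Function.Bijective f := (Nat.bijective_iff_injective_and_card f).2
    ⟨fun k k' e => Subtype.ext (K_conj_injective hS hs k.2 k'.2 (congrArg Subtype.val e)),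
      card_K hS⟩
  obtain ⟨k, hk⟩ := hf.2 ⟨s', hs'⟩
  exact ⟨k, k.2, congrArg Subtype.val hk⟩

end Cfsg.Agent.Involutions.RankOne
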