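import Cfsg.Prelude.Def_Solvable
import Cfsg.Agent.Lib.Cores.Basic
import Cfsg.Agent.Lib.Coprime.Generation
import Cfsg.Agent.Lib.Involutions.TwoGroups
import Cfsg.Agent.Lib.Involutions.RankOne.Basic

/-!
# `O(G)` in the split rank-one set-up
-/

set_option autoImplicit false
set_option linter.unusedSectionVars false

namespace Cfsg.Agent.Involutions.RankOne

open MulAction Involutions.Basic

variable {G Ω : Type*} [Group G] [Finite G] [MulAction G Ω] {a : Ω} {t : G} {Q : Subgroup G}
variable (hS : Cfsg.IsRankOneSetup G Ω a t Q)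

local notation "H" => MulAction.stabilizer G a
local notation "D" => (MulAction.stabilizer G a ⊓ MulAction.stabilizer G (t • a))

include hS

theorem normalCore_le_D : (H).normalCore ≤ D := by
  refine le_inf (Subgroup.normalCore_le _) fun x hx => ?_
  have h2 : t * x * t⁻¹ ∈ H := hx t
  have h3 : (t * x * t⁻¹) • a = a := h2
  rw [t_inv hS, mul_smul, mul_smul] at h3
  show x • (t • a) = t • a
  conv_rhs => rw [← h3, smul_smul, hS.mul_self, one_smul]

theorem core_eq {x y : G} (hx : orderOf x = 2) (hy : orderOf y = 2) (hne : x ≠ y)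
    (hxy : Commute x y) : Cfsg.pPrimeCore 2 G = (H).normalCore := by
  refine le_antisymm ?_ (Cores.le_pPrimeCore ((Nat.coprime_two_right.2 hS.odd_card).coprime_dvd_left
    (Subgroup.card_dvd_of_le (normalCore_le_D hS))))
  set N := Cfsg.pPrimeCore 2 G with hN
  have hNn : N.Normal := by rw [hN]; infer_instance
  have hodd : Odd (Nat.card N) := Nat.coprime_two_right.1 (Cores.pPrimeCore_card_coprime 2)
  obtain ⟨hK, hmem⟩ := TwoGroups.four_group hx hy hxy hne
  set A := Subgroup.closure ({x, y} : Set G) with hA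
  obtain ⟨γ, hγ, huniq⟩ := fixed_unique hS (ne_one hx) (inv_sq_one hx)
  have hinv : ∀ e ∈ A, e ≠ 1 → e • γ = γ ∧ e * e = 1 := by
    intro e he he1
    refine ⟨?_, congrArg Subtype.val (IsKleinFour.mul_self (⟨e, he⟩ : A))⟩
    have hyγ : y • γ = γ := huniq _ (by
      show x • y • γ = y • γ
      rw [smul_smul, hxy.eq, mul_smul, hγ])
    rcases hmem e he with rfl | rfl | rfl | rfl
    · exact absurd rfl he1
    · exact hγ
    · exact hyγ
    · rw [mul_smul, hyγ, hγ]
  haveI : IsMulCommutative A :=
    ⟨⟨fun p q => mul_comm_of_exponent_two IsKleinFour.exponent_two p q⟩⟩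
  have hle : N ≤ MulAction.stabilizer G γ := by
    rw [← Coprime.fixedGen_eq (A := A) (K := N) IsKleinFour.not_isCyclic
      (Subgroup.le_normalizer_iff.2 fun e _ n hn => hNn.conj_mem n hn e)
      (by rw [IsKleinFour.card_four, show (4 : ℕ) = 2 ^ 2 by norm_num]
          exact (Nat.coprime_two_left.2 hodd).pow_left 2)]
    refine iSup₂_le fun e he g hg => ?_
    obtain ⟨hfix, he2⟩ := hinv e he.1 he.2
    obtain ⟨δ, -, hu⟩ := fixed_unique hS he.2 he2
    have h1 := Subgroup.mem_centralizer_singleton_iff.1 hg.2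
    show g • γ = γ
    exact (hu (g • γ) (show e • g • γ = g • γ by rw [smul_smul, ← h1, mul_smul, hfix])).trans
      (hu γ hfix).symm
  refine Subgroup.normal_le_normalCore.2 fun n hn => ?_
  obtain ⟨g, hg⟩ := (pretransitive hS).exists_smul_eq a γ
  have h1 : (g * n * g⁻¹) • γ = γ := hle (hNn.conj_mem n hn g)
  rw [← hg, mul_smul, mul_smul, inv_smul_smul] at h1
  exact smul_left_cancel g h1

end Cfsg.Agent.Involutions.RankOne
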