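import Mathlib
import Cfsg.Prelude.Def_LieRecognition
import Cfsg.Prelude.Def_Sz
import Cfsg.Prelude.Def_Exceptional
import Cfsg.Prelude.Def_TwoFusion
import Cfsg.Prelude.Def_Classical
import Cfsg.Agent.Lib.Involutions.StronglyEmbedded
import Cfsg.Agent.Lib.Suzuki.LieEquiv
import Cfsg.Agent.Lib.ZStar.Consequences

/-!
# Consequences of the split rank-one classification: common part

The classification itself (statement S1136) is taken as a hypothesis `Classification`.
-/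

set_option autoImplicit false

namespace Cfsg.Agent.Involutions.RankOne.Cons

open MulAction Involutions.Basic

universe u

/-- The statement of S1136, for `G` and `Ω` in one universe. -/
def Classification : Prop :=
  ∀ {G Ω : Type u} [Group G] [Finite G] [MulAction G Ω] [FaithfulSMul G Ω] {a : Ω} {t : G}
    {Q : Subgroup G}, Cfsg.IsRankOneSetup G Ω a t Q →
    (∃ x y : G, x ≠ 1 ∧ y ≠ 1 ∧ x ≠ y ∧ x * x = 1 ∧ y * y = 1 ∧ x * y = y * x) →
    ∃ L : Subgroup G, L.Normal ∧ Odd L.index ∧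
      ((∃ (F : Type) (_ : Field F) (_ : Fintype F), (∃ n : ℕ, 2 ≤ n ∧ Fintype.card F = 2 ^ n) ∧
          Nonempty (L ≃* Matrix.ProjectiveSpecialLinearGroup (Fin 2) F)) ∨
        Cfsg.Lie.IsoSuzuki L ∨
        (∃ (F : Type) (_ : Field F) (_ : Fintype F) (n : ℕ), 2 ≤ n ∧ Fintype.card F = (2 ^ n) ^ 2 ∧
          Nonempty (L ≃* Cfsg.PSU 3 F (2 ^ n))))

variable {G : Type u} [Group G] [Finite G]

omit [Finite G] in
/-- A simple group acts faithfully on the cosets of a proper subgroup. -/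
theorem faithful [IsSimpleGroup G] {H : Subgroup G} (hH : H ≠ ⊤) : FaithfulSMul G (G ⧸ H) := by
  refine ⟨fun {g₁ g₂} h => ?_⟩
  have hcore : H.normalCore = ⊥ :=
    (IsSimpleGroup.eq_bot_or_eq_top_of_normal H.normalCore inferInstance).resolve_right fun e =>
      hH (eq_top_iff.2 (e ▸ H.normalCore_le))
  have hker : (toPermHom G (G ⧸ H)).ker = ⊥ := (Subgroup.normalCore_eq_ker H).symm.trans hcore
  exact (MonoidHom.ker_eq_bot_iff _).1 hker (Equiv.ext h)

/-- A simple group with a strongly embedded subgroup has two commuting involutions. -/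
theorem exists_two_commuting [IsSimpleGroup G] {H : Subgroup G} (hH : Cfsg.IsStronglyEmbedded H) :
    ∃ x y : G, x ≠ 1 ∧ y ≠ 1 ∧ x ≠ y ∧ x * x = 1 ∧ y * y = 1 ∧ x * y = y * x := by
  by_contra hno
  obtain ⟨z, hzH, hz⟩ := StronglyEmbedded.exists_involution_mem hH.2.1
  have hiso : Cfsg.IsIsolatedInvolution z := by
    refine ⟨hz, fun g hc => ?_⟩
    by_contra hne
    have hw : orderOf (g * z * g⁻¹) = 2 := by rw [orderOf_conj, hz]
    exact hno ⟨z, g * z * g⁻¹, ne_one hz, ne_one hw, Ne.symm hne, inv_sq_one hz, inv_sq_one hw,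
      hc.eq⟩
  rcases IsSimpleGroup.eq_bot_or_eq_top_of_normal (Cfsg.oddCore G) inferInstance with hb | ht
  · have hcen : z ∈ Subgroup.center G := Subgroup.mem_center_iff.2 fun g => by
      have h := Agent.ZStar.Main.commutator_mem_oddCore hiso g
      rw [hb, Subgroup.mem_bot, mul_inv_eq_one, mul_inv_eq_iff_eq_mul] at h
      exact h.symm
    refine hH.1 (eq_top_iff.2 fun g _ => ?_)
    exact StronglyEmbedded.mem_of_commute hH hzH hz ((Subgroup.mem_center_iff.1 hcen) g)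
  · have hodd : Odd (Nat.card (Cfsg.oddCore G)) := Agent.InvChar.Core.odd_card_oddCore
    rw [ht, Subgroup.card_top] at hodd
    exact Nat.not_even_iff_odd.2 hodd (hH.2.1.trans_dvd (Subgroup.card_subgroup_dvd_card H))

omit [Finite G] in
/-- A normal subgroup of odd index in a simple group of even order is the whole group. -/
theorem eq_top_of_odd_index [IsSimpleGroup G] {L : Subgroup G} (hL : L.Normal) (hodd : Odd L.index)
    (heven : Even (Nat.card G)) : L = ⊤ := by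
  rcases IsSimpleGroup.eq_bot_or_eq_top_of_normal L hL with h | h
  · rw [h, Subgroup.index_bot] at hodd
    exact absurd heven (Nat.not_even_iff_odd.2 hodd)
  · exact h

/-- A group isomorphic to a Suzuki group is simple of Suzuki order. -/
theorem isSuzuki_of_iso [IsSimpleGroup G] (h : Cfsg.Lie.IsoSuzuki G) : Cfsg.IsSuzuki G := by
  obtain ⟨F, hField, hFin, m, hm, hF, ⟨e⟩⟩ := h
  haveI := Agent.Suzuki.charTwo hF
  obtain ⟨e'⟩ := Agent.Suzuki.lieEquiv hm hF
  exact ⟨inferInstance, m, hm, by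
    rw [Nat.card_congr e.toEquiv, ← Nat.card_congr e'.toEquiv, Agent.Suzuki.card_eq hm hF, hF]⟩

/-- The classification for a simple group: `G` itself is `PSL₂(2ⁿ)`, `Sz(q)` or `PSU₃(2ⁿ)`. -/
theorem simple_case (hC : Classification.{u}) [IsSimpleGroup G] {H : Subgroup G}
    (hH : Cfsg.IsStronglyEmbedded H) {Ω : Type u} [MulAction G Ω] [FaithfulSMul G Ω] {a : Ω} {t : G}
    {Q : Subgroup G} (hS : Cfsg.IsRankOneSetup G Ω a t Q) :
    (∃ (F : Type) (_ : Field F) (_ : Fintype F), (∃ n : ℕ, 2 ≤ n ∧ Fintype.card F = 2 ^ n) ∧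
        Nonempty (G ≃* Matrix.ProjectiveSpecialLinearGroup (Fin 2) F)) ∨
      Cfsg.IsSuzuki G ∨
      (∃ (F : Type) (_ : Field F) (_ : Fintype F) (n : ℕ), 2 ≤ n ∧ Fintype.card F = (2 ^ n) ^ 2 ∧
        Nonempty (G ≃* Cfsg.PSU 3 F (2 ^ n))) := by
  obtain ⟨L, hLn, hLodd, h⟩ := hC hS (exists_two_commuting hH)
  have hLtop := eq_top_of_odd_index hLn hLodd (hH.2.1.trans_dvd (Subgroup.card_subgroup_dvd_card H))
  let e : G ≃* L := (Subgroup.topEquiv.symm).trans (MulEquiv.subgroupCongr hLtop.symm)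
  rcases h with ⟨F, i1, i2, hn, ⟨f⟩⟩ | h | ⟨F, i1, i2, n, hn, hF, ⟨f⟩⟩
  · exact Or.inl ⟨F, i1, i2, hn, ⟨e.trans f⟩⟩
  · obtain ⟨F, i1, i2, m, hm, hF, ⟨f⟩⟩ := h
    exact Or.inr (Or.inl (isSuzuki_of_iso ⟨F, i1, i2, m, hm, hF, ⟨e.trans f⟩⟩))
  · exact Or.inr (Or.inr ⟨F, i1, i2, n, hn, hF, ⟨e.trans f⟩⟩)

omit [Finite G] in
/-- The rank-one set-up on a coset space, from subgroup data. -/
theorem setup_of_cosets {H Q : Subgroup G} (h2 : IsMultiplyPretransitive G (G ⧸ H) 2) {t : G}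
    (ht2 : t * t = 1) (htH : t ∉ H) (hQH : Q ≤ H)
    (hQn : ∀ h ∈ H, ∀ x ∈ Q, h * x * h⁻¹ ∈ Q)
    (hfree : ∀ x ∈ Q, t⁻¹ * x * t ∈ H → x = 1)
    (hsup : ∀ h ∈ H, ∃ q ∈ Q, t⁻¹ * (q⁻¹ * h) * t ∈ H)
    (heven : Even (Nat.card Q))
    (hodd : Odd (Nat.card ↥(H ⊓ H.map (MulAut.conj t).toMonoidHom))) :
    Cfsg.IsRankOneSetup G (G ⧸ H) ((1 : G) : G ⧸ H) t Q := by
  have hst : stabilizer G ((1 : G) : G ⧸ H) = H := stabilizer_quotient H
  have hmemt : ∀ x : G, x ∈ stabilizer G (t • ((1 : G) : G ⧸ H)) ↔ t⁻¹ * x * t ∈ H := by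
    intro x
    rw [mem_stabilizer_iff, smul_smul]
    show ((x * t * 1 : G) : G ⧸ H) = ((t * 1 : G) : G ⧸ H) ↔ _
    rw [mul_one, mul_one, QuotientGroup.eq, ← inv_mem_iff]
    simp only [mul_inv_rev, inv_inv, mul_assoc]
  have hD : stabilizer G (t • ((1 : G) : G ⧸ H)) = H.map (MulAut.conj t).toMonoidHom := by
    ext x
    rw [hmemt, Subgroup.mem_map_equiv, MulAut.conj_symm_apply]
  refine
    { two_transitive := h2
      mul_self := ht2
      ne_one := fun e => htH (e ▸ H.one_mem)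
      not_mem := by rw [hst]; exact htH
      le := by rw [hst]; exact hQH
      conj_mem := by rw [hst]; exact hQn
      inf_eq_bot := ?_
      sup_eq := ?_
      even_card := heven
      odd_card := by rw [hst, hD]; exact hodd }
  · exact (Subgroup.eq_bot_iff_forall _).2 fun x hx => hfree x hx.1 ((hmemt x).1 hx.2)
  · rw [hst]
    refine le_antisymm (sup_le hQH inf_le_left) fun h hh => ?_
    obtain ⟨q, hq, hqt⟩ := hsup h hh
    rw [← mul_inv_cancel_left q h]
    exact Subgroup.mul_mem_sup hq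
      (Subgroup.mem_inf.2 ⟨H.mul_mem (H.inv_mem (hQH hq)) hh, (hmemt _).2 hqt⟩)

end Cfsg.Agent.Involutions.RankOne.Cons
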