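import Cfsg.Prelude.Def_LieExceptional
import Cfsg.Agent.Lib.Involutions.RankOne.ConsBase
import Cfsg.Agent.Lib.BN.Parabolic

/-!
# S0349 from the split rank-one classification, given regularity of `U`

The extra hypothesis `hreg` says that `U` meets every conjugate `g B g⁻¹ ≠ B` trivially.
-/

set_option autoImplicit false

namespace Cfsg.Agent.Involutions.RankOne.Cons

open MulAction Involutions.Basic
open Cfsg.Agent.BN.Basic Cfsg.Agent.BN.Parabolic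

universe u

variable {G : Type u} [Group G] [Finite G] (P : Cfsg.BNPair G)

omit [Finite G] in
/-- The only distinguished generator of a pair of rank one, with `G = B ∪ B s B`. -/
theorem exists_generator (h1 : P.rank = 1) :
    ∃ s ∈ P.N, s ∉ P.B ∧ s * s ∈ P.B ⊓ P.N ∧
      ∀ g : G, g ∉ P.B → ∃ b ∈ P.B, ∃ b' ∈ P.B, g = b * s * b' := by
  obtain ⟨hsub, ⟨s⟩⟩ := Nat.card_eq_one_iff_unique.1 (show Nat.card P.S = 1 from h1)
  have hS : P.S = {(s : G)} := Set.ext fun x => by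
    simp only [Set.mem_singleton_iff]
    exact ⟨fun hx => congrArg Subtype.val (hsub.allEq ⟨x, hx⟩ s), fun hx => hx ▸ s.2⟩
  have hsN : (s : G) ∈ P.N := P.subset s.2
  refine ⟨s, hsN, fun h => gen_ne_one s ((mkW_eq_one_iff hsN).2 h),
    ⟨P.sq_mem s s.2, mul_mem hsN hsN⟩, fun g hg => ?_⟩
  have hm : g ∈ (P.parabolic P.S : Set G) := by simp [parabolic_S]
  rw [hS, parabolic_singleton] at hm
  rcases hm with h | h
  · exact absurd h hg
  · exact mem_dc.1 h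

/-- An involution of `N` outside `B`. -/
theorem exists_swap (h1 : P.rank = 1) (hH : Odd (Nat.card ↥(P.B ⊓ P.N))) :
    ∃ t ∈ P.N, t * t = 1 ∧ t ∉ P.B ∧
      ∀ g : G, g ∉ P.B → ∃ b ∈ P.B, ∃ b' ∈ P.B, g = b * t * b' := by
  obtain ⟨s, hsN, hsB, hs2, hcov⟩ := exists_generator P h1
  obtain ⟨m, hm⟩ : Odd (orderOf (s * s)) := hH.of_dvd_nat (Subgroup.orderOf_dvd_natCard _ hs2)
  have hp : (s * s) ^ (2 * m + 1) = 1 := hm ▸ pow_orderOf_eq_one _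
  have hdecomp : s ^ (2 * m + 1) = (s * s) ^ m * s := by rw [pow_succ, ← sq, pow_mul]
  have ht2 : s ^ (2 * m + 1) * s ^ (2 * m + 1) = 1 := by
    rw [← (Commute.refl s).mul_pow, hp]
  have hb : (s * s) ^ m ∈ P.B := pow_mem hs2.1 m
  refine ⟨s ^ (2 * m + 1), pow_mem hsN _, ht2, fun h => hsB ?_, fun g hg => ?_⟩
  · rw [hdecomp] at h
    exact (Subgroup.mul_mem_cancel_left _ hb).1 h
  · obtain ⟨b, hb', b', hb'', rfl⟩ := hcov g hg
    exact ⟨b * ((s * s) ^ m)⁻¹, mul_mem hb' (inv_mem hb), b', hb'', by rw [hdecomp]; group⟩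

omit [Finite G] in
/-- `B = U (B ⊓ N)` elementwise. -/
theorem exists_decomp_B (U : Subgroup G) (hUB : U ≤ P.B) (hUn : (U.subgroupOf P.B).Normal)
    (hsplit : U ⊔ (P.B ⊓ P.N) = P.B) {b : G} (hb : b ∈ P.B) :
    ∃ u ∈ U, ∃ h ∈ P.B ⊓ P.N, b = u * h := by
  have hn : P.B ⊓ P.N ≤ Subgroup.normalizer (U : Set G) :=
    Subgroup.le_normalizer_iff.2 fun d hd x hx => hUn.conj_mem ⟨x, hUB hx⟩ hx ⟨d, hd.1⟩
  rw [← hsplit, ← SetLike.mem_coe, Subgroup.coe_mul_of_right_le_normalizer_left U _ hn] at hb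
  obtain ⟨u, hu, h, hh, rfl⟩ := hb
  exact ⟨u, hu, h, hh, rfl⟩

omit [Finite G] in
/-- `G` is doubly transitive on `G ⧸ B`. -/
theorem two_transitive {t : G}
    (hcov : ∀ g : G, g ∉ P.B → ∃ b ∈ P.B, ∃ b' ∈ P.B, g = b * t * b') :
    IsMultiplyPretransitive G (G ⧸ P.B) 2 := by
  have htrans : ∀ g₁ g₂ : G, g₁ ∉ P.B → g₂ ∉ P.B → ∃ v ∈ P.B, g₂⁻¹ * (v * g₁) ∈ P.B := by
    intro g₁ g₂ hg₁ hg₂
    obtain ⟨b₁, hb₁, c₁, hc₁, rfl⟩ := hcov g₁ hg₁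
    obtain ⟨b₂, hb₂, c₂, hc₂, rfl⟩ := hcov g₂ hg₂
    refine ⟨b₂ * b₁⁻¹, mul_mem hb₂ (inv_mem hb₁), ?_⟩
    rw [show (b₂ * t * c₂)⁻¹ * (b₂ * b₁⁻¹ * (b₁ * t * c₁)) = c₂⁻¹ * c₁ by group]
    exact mul_mem (inv_mem hc₂) hc₁
  refine is_two_pretransitive_iff.2 fun {p q r s} hpq hrs => ?_
  obtain ⟨g₁, rfl⟩ := QuotientGroup.mk_surjective p
  obtain ⟨g₂, rfl⟩ := QuotientGroup.mk_surjective q
  obtain ⟨k₁, rfl⟩ := QuotientGroup.mk_surjective r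
  obtain ⟨k₂, rfl⟩ := QuotientGroup.mk_surjective s
  obtain ⟨v, hv, hv'⟩ := htrans (g₁⁻¹ * g₂) (k₁⁻¹ * k₂) (fun h => hpq (QuotientGroup.eq.2 h))
    (fun h => hrs (QuotientGroup.eq.2 h))
  refine ⟨k₁ * v * g₁⁻¹, ?_, ?_⟩
  · show ((k₁ * v * g₁⁻¹ * g₁ : G) : G ⧸ P.B) = (k₁ : G ⧸ P.B)
    rw [QuotientGroup.eq, show (k₁ * v * g₁⁻¹ * g₁)⁻¹ * k₁ = v⁻¹ by group]
    exact inv_mem hv
  · show ((k₁ * v * g₁⁻¹ * g₂ : G) : G ⧸ P.B) = (k₂ : G ⧸ P.B)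
    rw [QuotientGroup.eq, show (k₁ * v * g₁⁻¹ * g₂)⁻¹ * k₂ =
      ((k₁⁻¹ * k₂)⁻¹ * (v * (g₁⁻¹ * g₂)))⁻¹ by group]
    exact inv_mem hv'

/-- S0349 follows from S1136 when `U` is regular on the cosets other than `B`. -/
theorem s0349 (hC : Classification.{u}) [IsSimpleGroup G] (h1 : P.rank = 1) (U : Subgroup G)
    (hUB : U ≤ P.B) (hUn : (U.subgroupOf P.B).Normal) (hsplit : U ⊔ (P.B ⊓ P.N) = P.B)
    (hind : Odd P.B.index) (hH : Odd (Nat.card ↥(P.B ⊓ P.N)))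
    (hreg : ∀ g : G, g ∉ P.B → ∀ u ∈ U, g⁻¹ * u * g ∈ P.B → u = 1) :
    (∃ (F : Type) (_ : Field F) (_ : Fintype F), (∃ n : ℕ, Fintype.card F = 2 ^ n) ∧
        Nonempty (G ≃* Matrix.ProjectiveSpecialLinearGroup (Fin 2) F)) ∨
      Cfsg.IsSuzuki G ∨
      (∃ (F : Type) (_ : Field F) (_ : Fintype F) (n : ℕ), 2 ≤ n ∧ Fintype.card F = (2 ^ n) ^ 2 ∧
        Nonempty (G ≃* Cfsg.PSU 3 F (2 ^ n))) := by
  obtain ⟨t, htN, ht2, htB, hcov⟩ := exists_swap P h1 hH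
  have hdecomp : ∀ b ∈ P.B, ∃ u ∈ U, ∃ h ∈ P.B ⊓ P.N, b = u * h := fun b hb =>
    exists_decomp_B P U hUB hUn hsplit hb
  have hconjH : ∀ h ∈ P.B ⊓ P.N, t⁻¹ * h * t ∈ P.B := fun h hh => by
    simpa using P.conj_mem t⁻¹ (inv_mem htN) h hh
  have hsup : ∀ h ∈ P.B, ∃ q ∈ U, t⁻¹ * (q⁻¹ * h) * t ∈ P.B := fun b hb => by
    obtain ⟨u, hu, h, hh, rfl⟩ := hdecomp b hb
    exact ⟨u, hu, by rw [inv_mul_cancel_left]; exact hconjH h hh⟩
  have hfree : ∀ x ∈ U, t⁻¹ * x * t ∈ P.B → x = 1 := hreg t htB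
  have h2 : IsMultiplyPretransitive G (G ⧸ P.B) 2 := two_transitive P hcov
  -- a two-point stabiliser is `B ⊓ N`
  have hDle : ∀ g : G, g ∉ P.B →
      Odd (Nat.card ↥(P.B ⊓ P.B.map (MulAut.conj g).toMonoidHom)) := by
    intro g hg
    obtain ⟨b, hb, b', hb', rfl⟩ := hcov g hg
    have hle : P.B ⊓ P.B.map (MulAut.conj t).toMonoidHom ≤ P.B ⊓ P.N := fun x hx => by
      rw [Subgroup.mem_inf, Subgroup.mem_map_equiv, MulAut.conj_symm_apply] at hx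
      obtain ⟨u, hu, h, hh, rfl⟩ := hdecomp x hx.1
      have hu1 : u = 1 := hfree u hu (by
        rw [show t⁻¹ * u * t = (t⁻¹ * (u * h) * t) * (t⁻¹ * h * t)⁻¹ by group]
        exact mul_mem hx.2 (inv_mem (hconjH h hh)))
      rwa [hu1, one_mul]
    have heq : P.B ⊓ P.B.map (MulAut.conj (b * t * b')).toMonoidHom =
        (P.B ⊓ P.B.map (MulAut.conj t).toMonoidHom).map (MulAut.conj b).toMonoidHom := by
      ext x
      simp only [Subgroup.mem_inf, Subgroup.mem_map_equiv, MulAut.conj_symm_apply]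
      have hA : b⁻¹ * x * b ∈ P.B ↔ x ∈ P.B :=
        (Subgroup.mul_mem_cancel_right _ hb).trans (Subgroup.mul_mem_cancel_left _ (inv_mem hb))
      rw [hA, show (b * t * b')⁻¹ * x * (b * t * b') = b'⁻¹ * (t⁻¹ * (b⁻¹ * x * b) * t) * b' by group,
        Subgroup.mul_mem_cancel_right _ hb', Subgroup.mul_mem_cancel_left _ (inv_mem hb')]
    rw [heq, Subgroup.card_map_of_injective (MulAut.conj b).injective]
    exact hH.of_dvd_nat (Subgroup.card_dvd_of_le hle)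
  have hBeven : Even (Nat.card P.B) := by
    have heven : Even (Nat.card G) := by
      have h : orderOf t = 2 := orderOf_two_iff.2 ⟨ht2, fun e => htB (e ▸ P.B.one_mem)⟩
      exact even_iff_two_dvd.2 (h ▸ orderOf_dvd_natCard t)
    rw [← Subgroup.card_mul_index P.B, Nat.even_mul] at heven
    exact heven.resolve_right (Nat.not_even_iff_odd.2 hind)
  have hse : Cfsg.IsStronglyEmbedded P.B :=
    ⟨fun e => htB (e ▸ Subgroup.mem_top t), hBeven, hDle⟩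
  have hUeven : Even (Nat.card U) := by
    have hdis : ∀ x ∈ U, x ∈ P.B ⊓ P.N → x = 1 := fun x hx hx' => hfree x hx (hconjH x hx')
    have hcard : Nat.card P.B = Nat.card U * Nat.card ↥(P.B ⊓ P.N) := by
      rw [← Nat.card_prod]
      refine (Nat.card_eq_of_bijective (fun p : ↥U × ↥(P.B ⊓ P.N) => (⟨(p.1 : G) * p.2,
        mul_mem (hUB p.1.2) (Subgroup.mem_inf.1 p.2.2).1⟩ : P.B)) ⟨?_, ?_⟩).symm
      · rintro ⟨q, d⟩ ⟨q', d'⟩ e
        have e' : (q : G) * d = q' * d' := congrArg Subtype.val e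
        have h1 : (q' : G)⁻¹ * q = d' * (d : G)⁻¹ := by
          rw [eq_mul_inv_iff_mul_eq, mul_assoc, e', inv_mul_cancel_left]
        have h2 : (q' : G)⁻¹ * q = 1 :=
          hdis _ (mul_mem (inv_mem q'.2) q.2) (h1 ▸ mul_mem d'.2 (inv_mem d.2))
        have h3 : q = q' := Subtype.ext (inv_mul_eq_one.1 h2).symm
        subst h3
        exact Prod.ext rfl (Subtype.ext (mul_left_cancel e'))
      · rintro ⟨b, hb⟩
        obtain ⟨u, hu, h, hh, rfl⟩ := hdecomp b hb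
        exact ⟨(⟨u, hu⟩, ⟨h, hh⟩), rfl⟩
    rw [hcard, Nat.even_mul] at hBeven
    exact hBeven.resolve_right (Nat.not_even_iff_odd.2 hH)
  haveI := faithful hse.1
  have hS := setup_of_cosets h2 ht2 htB hUB (fun h hh x hx => hUn.conj_mem ⟨x, hUB hx⟩ hx ⟨h, hh⟩)
    hfree hsup hUeven (hDle t htB)
  rcases simple_case hC hse hS with ⟨F, i1, i2, ⟨n, -, hF⟩, hf⟩ | h | h
  · exact Or.inl ⟨F, i1, i2, ⟨n, hF⟩, hf⟩
  · exact Or.inr (Or.inl h)
  · exact Or.inr (Or.inr h)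

end Cfsg.Agent.Involutions.RankOne.Cons
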