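import Cfsg.Agent.Recognition.SemilinearBound

/-!
A group of additive automorphisms normalising a cyclic group which is transitive on the non-zero
elements induces a cyclic group of field automorphisms on it.
-/

set_option autoImplicit false

namespace Cfsg.Agent.Involutions.CyclicModulo

variable {A : Type*} [AddCommGroup A] [Finite A] {V : Type*} [Group V]

/-- The generator of `V` modulo the elements commuting with `γ`. -/
theorem exists_generator (γ : AddMonoid.End A) {s : A} (hs : s ≠ 0) (hinj : Function.Injective γ)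
    (hmove : ∀ a : A, a ≠ 0 → ∃ i : ℕ, (γ ^ i) s = a) (ρ : V →* AddMonoid.End A)
    (hnorm : ∀ v : V, ∃ i : ℕ, ρ v * γ * ρ v⁻¹ = γ ^ i) :
    ∃ v : V, ∀ x : V, ∃ (i : ℤ) (u : V), x = u * v ^ i ∧ ρ u * γ * ρ u⁻¹ = γ := by
  classical
  set L := Subring.centralizer ({γ} : Set (AddMonoid.End A)) with hL
  have hmem : ∀ φ : AddMonoid.End A, φ ∈ L ↔ γ * φ = φ * γ := fun φ => by
    rw [hL, Subring.mem_centralizer_iff]
    exact ⟨fun h => h γ rfl, fun h x hx => by rw [Set.mem_singleton_iff.1 hx]; exact h⟩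
  have hext : ∀ φ ∈ L, ∀ ψ ∈ L, φ s = ψ s → φ = ψ := by
    intro φ hφ ψ hψ e
    refine AddMonoidHom.ext fun a => ?_
    rcases eq_or_ne a 0 with rfl | ha
    · exact (map_zero φ).trans (map_zero ψ).symm
    obtain ⟨i, rfl⟩ := hmove a ha
    show (φ * γ ^ i) s = (ψ * γ ^ i) s
    rw [← ((show Commute γ φ from (hmem φ).1 hφ).pow_left i).eq,
      ← ((show Commute γ ψ from (hmem ψ).1 hψ).pow_left i).eq]
    show (γ ^ i) (φ s) = (γ ^ i) (ψ s)
    rw [e]
  have hγL : ∀ i : ℕ, γ ^ i ∈ L := fun i => (hmem _).2 ((Commute.refl γ).pow_right i).eq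
  have hcases : ∀ φ ∈ L, φ = 0 ∨ ∃ i : ℕ, φ = γ ^ i := by
    intro φ hφ
    rcases eq_or_ne (φ s) 0 with h0 | h0
    · exact Or.inl (hext φ hφ 0 (zero_mem L) h0)
    · obtain ⟨i, hi⟩ := hmove _ h0
      exact Or.inr ⟨i, hext φ hφ _ (hγL i) hi.symm⟩
  letI : CommRing L :=
    { (inferInstance : Ring L) with
      mul_comm := fun a b => Subtype.ext (by
        show (a : AddMonoid.End A) * b = b * a
        rcases hcases _ a.2 with ha | ⟨i, ha⟩
        · rw [ha, zero_mul, mul_zero]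
        rcases hcases _ b.2 with hb | ⟨j, hb⟩
        · rw [hb, zero_mul, mul_zero]
        rw [ha, hb, ← pow_add, ← pow_add, add_comm]) }
  have hinjp : ∀ i : ℕ, Function.Injective (γ ^ i) := fun i => by
    induction i with
    | zero => rw [pow_zero]; exact fun a b e => e
    | succ i ih =>
      rw [pow_succ]
      exact fun a b e => hinj (ih e)
  haveI : Nontrivial L := ⟨⟨1, 0, fun e => hs
    (congrArg (fun φ : L => (φ : AddMonoid.End A) s) e)⟩⟩
  haveI : NoZeroDivisors L := ⟨fun {a b} hab => by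
    rcases hcases _ a.2 with ha | ⟨i, ha⟩
    · exact Or.inl (Subtype.ext ha)
    refine Or.inr (Subtype.ext (AddMonoidHom.ext fun x => hinjp i ?_))
    have h1 : ((a : AddMonoid.End A) * b) x = 0 :=
      congrArg (fun φ : L => (φ : AddMonoid.End A) x) hab
    rw [ha] at h1
    exact h1.trans (map_zero (γ ^ i)).symm⟩
  haveI : IsDomain L := NoZeroDivisors.to_isDomain L
  haveI : Finite (AddMonoid.End A) := Finite.of_injective _ DFunLike.coe_injective
  have hconj : ∀ v : V, ∀ φ ∈ L, ρ v * φ * ρ v⁻¹ ∈ L := by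
    intro v φ hφ
    rw [hmem]
    obtain ⟨i, hi⟩ := hnorm v⁻¹
    rw [inv_inv] at hi
    have hinv : ρ v * ρ v⁻¹ = 1 := by rw [← map_mul, mul_inv_cancel, map_one]
    have e1 : γ * ρ v = ρ v * γ ^ i := by
      rw [← hi, ← mul_assoc, ← mul_assoc, hinv, one_mul]
    have e2 : γ ^ i * ρ v⁻¹ = ρ v⁻¹ * γ := by
      rw [← hi, mul_assoc (ρ v⁻¹ * γ), hinv, mul_one]
    have e3 : γ ^ i * φ = φ * γ ^ i := ((show Commute γ φ from (hmem φ).1 hφ).pow_left i).eq
    calc γ * (ρ v * φ * ρ v⁻¹) = (γ * ρ v) * φ * ρ v⁻¹ := by simp only [mul_assoc]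
      _ = ρ v * (γ ^ i * φ) * ρ v⁻¹ := by rw [e1]; simp only [mul_assoc]
      _ = ρ v * φ * (γ ^ i * ρ v⁻¹) := by rw [e3]; simp only [mul_assoc]
      _ = ρ v * φ * ρ v⁻¹ * γ := by rw [e2]; simp only [mul_assoc]
  have hcan : ∀ (v : V) (φ : AddMonoid.End A), ρ v⁻¹ * (ρ v * φ * ρ v⁻¹) * ρ v = φ := fun v φ => by
    have h1 : ρ v⁻¹ * ρ v = 1 := by rw [← map_mul, inv_mul_cancel, map_one]
    rw [← mul_assoc, ← mul_assoc, h1, one_mul, mul_assoc, h1, mul_one]
  let θ : V →* (L ≃+* L) :=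
    { toFun := fun v =>
        { toFun := fun φ => ⟨ρ v * φ * ρ v⁻¹, hconj v φ φ.2⟩
          invFun := fun φ => ⟨ρ v⁻¹ * φ * ρ v, by simpa using hconj v⁻¹ φ φ.2⟩
          left_inv := fun φ => Subtype.ext (hcan v φ)
          right_inv := fun φ => Subtype.ext (by simpa using hcan v⁻¹ (φ : AddMonoid.End A))
          map_add' := fun a b => Subtype.ext (by
            show ρ v * ((a : AddMonoid.End A) + b) * ρ v⁻¹ = _
            rw [mul_add, add_mul]; rfl)
          map_mul' := fun a b => Subtype.ext (by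
            show ρ v * ((a : AddMonoid.End A) * b) * ρ v⁻¹ = ρ v * a * ρ v⁻¹ * (ρ v * b * ρ v⁻¹)
            simp only [mul_assoc]
            rw [← mul_assoc (ρ v⁻¹) (ρ v), ← map_mul, inv_mul_cancel, map_one, one_mul]) }
      map_one' := RingEquiv.ext fun φ => Subtype.ext (by
        show ρ 1 * φ * ρ (1 : V)⁻¹ = φ
        rw [inv_one, map_one, one_mul, mul_one])
      map_mul' := fun v w => RingEquiv.ext fun φ => Subtype.ext (by
        show ρ (v * w) * φ * ρ (v * w)⁻¹ = ρ v * (ρ w * φ * ρ w⁻¹) * ρ v⁻¹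
        rw [mul_inv_rev, map_mul, map_mul]
        simp only [mul_assoc]) }
  haveI : Fintype L := Fintype.ofFinite L
  letI : Field L := Fintype.fieldOfDomain L
  have hcyc : IsCyclic (L ≃+* L) := by
    haveI : CharP L (ringChar L) := ringChar.charP _
    obtain ⟨n, hp, hn⟩ := FiniteField.card L (ringChar L)
    haveI := Fact.mk hp
    exact (Recognition.SemilinearBound.ringEquiv_group_finite (ringChar L) n
      (by rw [Nat.card_eq_fintype_card, hn])).1
  obtain ⟨⟨_, v, rfl⟩, hgen⟩ := (Subgroup.isCyclic θ.range).exists_generator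
  refine ⟨v, fun x => ?_⟩
  obtain ⟨i, hi⟩ := hgen ⟨θ x, x, rfl⟩
  refine ⟨i, x * (v ^ i)⁻¹, (inv_mul_cancel_right x _).symm, ?_⟩
  have hu : θ (x * (v ^ i)⁻¹) = 1 := by
    rw [map_mul, map_inv, map_zpow, show θ v ^ i = θ x from congrArg Subtype.val hi, mul_inv_cancel]
  have := congrArg (fun f : L ≃+* L => ((f ⟨γ, by simpa using hγL 1⟩ : L) : AddMonoid.End A)) hu
  exact this

end Cfsg.Agent.Involutions.CyclicModulo
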