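import Cfsg.Agent.Lib.Involutions.RankOne.Nilpotent
import Cfsg.Agent.Lib.Involutions.RankOne.InvertedSet
import Cfsg.Agent.Lib.OddTransitive.Basic
import Cfsg.Agent.Lib.Involutions.RankOne.CyclicModulo

/-!
# The inverted set of the two-point stabiliser is a cyclic normal subgroup (Peterfalvi)

Solvability of the two-point stabiliser (the odd order theorem) is a hypothesis.
-/

set_option autoImplicit false
set_option linter.unusedSectionVars false
set_option linter.style.haveILetI false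
set_option maxHeartbeats 1600000

namespace Cfsg.Agent.Involutions.InvertedCyclic

open scoped IsMulCommutative

variable {M : Type*} [Group M] [Finite M]

theorem commute_sq_of_inverted {Q : Type*} [Group Q] {x f : Q}
    (h : x⁻¹ * f⁻¹ * x⁻¹⁻¹ = (x * f * x⁻¹)⁻¹) : x * x * f = f * (x * x) := by
  have h4 : x⁻¹ * f * x = x * f * x⁻¹ := by
    have h5 := congrArg (fun z => z⁻¹) h
    simpa [mul_assoc] using h5
  calc x * x * f = x * (x * f * x⁻¹) * x := by simp [mul_assoc]
    _ = x * (x⁻¹ * f * x) * x := by rw [h4]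
    _ = f * (x * x) := by simp [mul_assoc]

/-- The abstract situation: `D` of odd order normalises the elementary abelian `2`-group `E`, the
involution `t` acts on `D`, and the set `K` inverted by `t` moves `s` regularly to `E - {1}`. -/
structure Data (D E : Subgroup M) (t s : M) : Prop where
  odd : Odd (Nat.card D)
  tt : t * t = 1
  tD : ∀ x ∈ D, t * x * t⁻¹ ∈ D
  comm : ∀ a ∈ E, ∀ b ∈ E, a * b = b * a
  sq : ∀ a ∈ E, a * a = 1
  norm : D ≤ Subgroup.normalizer (E : Set M)
  sE : s ∈ E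
  s_ne : s ≠ 1
  exists_k : ∀ e ∈ E, e ≠ 1 → ∃ k ∈ Cfsg.invertedBy D t, k * s * k⁻¹ = e
  inj : ∀ k ∈ Cfsg.invertedBy D t, ∀ k' ∈ Cfsg.invertedBy D t,
    k * s * k⁻¹ = k' * s * k'⁻¹ → k = k'
  cent : ∀ d ∈ D, (t * d * t⁻¹ = d ↔ d * s * d⁻¹ = s)

namespace Data

variable {D E : Subgroup M} {t s : M} (h : Data D E t s)

/-- The action of `D` on `E`. -/
def act : D →* MulAut E :=
  (Subgroup.normalizerMonoidHom E).comp (Subgroup.inclusion h.norm)

theorem act_apply (d : D) (e : E) : ((h.act d e : E) : M) = (d : M) * e * (d : M)⁻¹ := rfl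

theorem mem_ker {d : D} : d ∈ h.act.ker ↔ ∀ e ∈ E, (d : M) * e * (d : M)⁻¹ = e := by
  constructor
  · intro hd e he
    have := congrArg (fun f : MulAut E => ((f ⟨e, he⟩ : E) : M)) (MonoidHom.mem_ker.1 hd)
    simpa [h.act_apply] using this
  · intro hd
    exact MonoidHom.mem_ker.2 (MulEquiv.ext fun e => Subtype.ext (hd e e.2))

/-- Conjugation by `t` on `D`. -/
def tau : D ≃* D where
  toFun x := ⟨t * x * t⁻¹, h.tD x x.2⟩
  invFun x := ⟨t * x * t⁻¹, h.tD x x.2⟩
  left_inv x := Subtype.ext (by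
    show t * (t * (x : M) * t⁻¹) * t⁻¹ = x
    rw [show t * (t * (x : M) * t⁻¹) * t⁻¹ = (t * t) * x * (t * t)⁻¹ by group, h.tt]; group)
  right_inv x := Subtype.ext (by
    show t * (t * (x : M) * t⁻¹) * t⁻¹ = x
    rw [show t * (t * (x : M) * t⁻¹) * t⁻¹ = (t * t) * x * (t * t)⁻¹ by group, h.tt]; group)
  map_mul' x y := Subtype.ext (by
    show t * ((x : M) * y) * t⁻¹ = t * x * t⁻¹ * (t * y * t⁻¹)
    group)

theorem tau_ker : h.act.ker.map h.tau.toMonoidHom = h.act.ker := by
  have hfix : ∀ d ∈ h.act.ker, h.tau d = d := fun d hd =>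
    Subtype.ext ((h.cent d d.2).2 (h.mem_ker.1 hd s h.sE))
  ext d
  constructor
  · rintro ⟨x, hx, rfl⟩
    show h.tau x ∈ _
    rw [hfix x hx]; exact hx
  · intro hd
    exact ⟨d, hd, hfix d hd⟩

include h

/-- The inverted set is a cyclic subgroup normalised by `D`. -/
theorem exists_cyclic [hsolv : Group.IsSolvable D] :
    ∃ g ∈ Cfsg.invertedBy D t, (Subgroup.zpowers g : Set M) = Cfsg.invertedBy D t ∧
      ∀ d ∈ D, d * g * d⁻¹ ∈ Subgroup.zpowers g := by
  classical
  set N := h.act.ker with hN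
  let π : D →* D ⧸ N := QuotientGroup.mk' N
  let τ : (D ⧸ N) ≃* (D ⧸ N) := QuotientGroup.congr N N h.tau h.tau_ker
  have hτ : ∀ d : D, τ (π d) = π (h.tau d) := fun d => rfl
  have hQodd : Odd (Nat.card (D ⧸ N)) := h.odd.of_dvd_nat (Subgroup.card_quotient_dvd_card N)
  haveI : Group.IsSolvable (D ⧸ N) :=
    Group.isSolvable_of_surjective (QuotientGroup.mk'_surjective N)
  -- the action on `Additive E`
  haveI : IsMulCommutative E := ⟨⟨fun a b => Subtype.ext (h.comm a a.2 b b.2)⟩⟩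
  let ψ : D ⧸ N →* MulAut E := QuotientGroup.kerLift h.act
  have hψ : ∀ d : D, ψ (π d) = h.act d := fun d => rfl
  letI : DistribMulAction (D ⧸ N) (Additive E) :=
    { smul := fun q v => Additive.ofMul (ψ q v.toMul)
      one_smul := fun v => by
        show Additive.ofMul (ψ 1 v.toMul) = v
        rw [map_one]; rfl
      mul_smul := fun q r v => by
        show Additive.ofMul (ψ (q * r) v.toMul) = Additive.ofMul (ψ q (ψ r v.toMul))
        rw [map_mul]; rfl
      smul_zero := fun q => by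
        show Additive.ofMul (ψ q 1) = 0
        rw [map_one]; rfl
      smul_add := fun q v w => by
        show Additive.ofMul (ψ q (v.toMul * w.toMul)) =
          Additive.ofMul (ψ q v.toMul * ψ q w.toMul)
        rw [map_mul] }
  haveI : FaithfulSMul (D ⧸ N) (Additive E) := ⟨fun {q r} hqr => by
    refine QuotientGroup.kerLift_injective h.act (MulEquiv.ext fun e => ?_)
    exact Additive.ofMul.injective (hqr (Additive.ofMul e))⟩
  haveI : Nontrivial (Additive E) :=
    ⟨⟨Additive.ofMul ⟨s, h.sE⟩, 0, fun e => h.s_ne (congrArg Subtype.val (Additive.ofMul.injective e))⟩⟩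
  have hE2 : ∀ e : Additive E, 2 • e = 0 := fun e => by
    rw [two_nsmul]
    exact Subtype.ext (h.sq _ (e.toMul : E).2)
  set sA : Additive E := Additive.ofMul ⟨s, h.sE⟩ with hsA
  have hmove : ∀ a : Additive E, a ≠ 0 →
      ∃ k : D, (k : M) ∈ Cfsg.invertedBy D t ∧ π k • sA = a := by
    intro a ha
    obtain ⟨k, hk, hks⟩ := h.exists_k _ (a.toMul : E).2
      (fun e => ha (Additive.toMul.injective (Subtype.ext e)))
    exact ⟨⟨k, hk.1⟩, hk, Additive.toMul.injective (Subtype.ext hks)⟩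
  have htrans : ∀ a b : Additive E, a ≠ 0 → b ≠ 0 → ∃ d : D ⧸ N, d • a = b := by
    intro a b ha hb
    obtain ⟨k, -, rfl⟩ := hmove a ha
    obtain ⟨l, -, rfl⟩ := hmove b hb
    exact ⟨π l * (π k)⁻¹, by rw [mul_smul, inv_smul_smul]⟩
  obtain ⟨hFc, hfpf, -⟩ := OddTransitive.fitting_structure (E := Additive E) hQodd Nat.prime_two hE2 htrans
  set F := Cfsg.fittingSubgroup (D ⧸ N) with hF
  haveI := hFc
  have hFcomm : ∀ f ∈ F, ∀ f' ∈ F, f * f' = f' * f := fun f hf f' hf' => by
    letI := hFc.commGroup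
    exact congrArg Subtype.val (mul_comm (⟨f, hf⟩ : F) ⟨f', hf'⟩)
  have hFτ : ∀ f ∈ F, τ f ∈ F := fun f hf => by
    exact (Cores.map_fittingSubgroup_eq τ).le ⟨f, hf, rfl⟩
  -- fixed points of `τ` fix `s`
  have hsq1 : ∀ q : D ⧸ N, q * q = 1 → q = 1 := fun q hq => by
    have h1 := orderOf_dvd_of_pow_eq_one ((pow_two q).trans hq)
    rcases (Nat.dvd_prime Nat.prime_two).1 h1 with h2 | h2
    · exact orderOf_eq_one_iff.1 h2
    · exact absurd (hQodd.of_dvd_nat (h2 ▸ orderOf_dvd_natCard q)) (by decide)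
  have hdec : ∀ q : D ⧸ N, ∃ c k : D, q = π c * π k ∧ h.tau c = c ∧ π c • sA = sA ∧
      (k : M) ∈ Cfsg.invertedBy D t := by
    intro q
    obtain ⟨d, rfl⟩ := QuotientGroup.mk'_surjective N q
    obtain ⟨c, k, hc, hct, hk, hck⟩ := InvertedSet.exists_decomp h.odd h.tt h.tD d.2
    refine ⟨⟨c, hc⟩, ⟨k, hk.1⟩, ?_, Subtype.ext hct,
      Additive.toMul.injective (Subtype.ext ((h.cent c hc).1 hct)), hk⟩
    rw [← map_mul]
    exact congrArg π (Subtype.ext hck)
  have hinvk : ∀ k : D, (k : M) ∈ Cfsg.invertedBy D t → τ (π k) = (π k)⁻¹ := fun k hk => by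
    rw [hτ, ← map_inv]
    exact congrArg π (Subtype.ext hk.2)
  have hfix : ∀ f ∈ F, τ f = f → f = 1 := by
    intro f hf hτf
    obtain ⟨c, k, rfl, hct, hcs, hk⟩ := hdec f
    rw [map_mul, hinvk k hk, hτ, hct] at hτf
    have hk1 : π k = 1 := hsq1 _ (inv_eq_iff_mul_eq_one.1 (mul_left_cancel hτf))
    by_contra hne
    refine h.s_ne ?_
    have := hfpf _ hf hne sA (by rw [hk1, mul_one]; exact hcs)
    exact congrArg (fun v : Additive E => ((v.toMul : E) : M)) this
  have hFinv : ∀ f ∈ F, τ f = f⁻¹ := by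
    intro f hf
    have hττ : τ (τ f) = f := by
      obtain ⟨d, rfl⟩ := QuotientGroup.mk'_surjective N f
      show π (h.tau (h.tau d)) = π d
      exact congrArg π (h.tau.left_inv d)
    have h1 := hfix _ (mul_mem hf (hFτ f hf))
      (by rw [map_mul, hττ]; exact hFcomm _ (hFτ f hf) _ hf)
    exact eq_inv_of_mul_eq_one_right h1
  -- inverted elements map into `F`
  have hKF : ∀ k : D, (k : M) ∈ Cfsg.invertedBy D t → π k ∈ F := by
    intro k hk
    refine Cores.centralizer_fittingSubgroup_le (Subgroup.mem_centralizer_iff.2 fun f hf => ?_)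
    set x := π k with hx
    have hxx : τ x = x⁻¹ := hinvk k hk
    have hfn : x * f * x⁻¹ ∈ F := Subgroup.Normal.conj_mem inferInstance f hf x
    have h2 := hFinv _ hfn
    rw [map_mul, map_mul, map_inv, hxx, hFinv f hf] at h2
    have h3 : x * x * f = f * (x * x) := commute_sq_of_inverted h2
    obtain ⟨m, hm⟩ := hQodd
    have hpow : x = (x * x) ^ (m + 1) := by
      rw [← pow_two, ← pow_mul, show 2 * (m + 1) = Nat.card (D ⧸ N) + 1 by omega, pow_succ,
        pow_card_eq_one', one_mul]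
    rw [hpow]
    exact ((show Commute (x * x) f from h3).pow_left (m + 1)).eq.symm
  -- every element of `F` comes from an inverted element
  have hFK : ∀ f ∈ F, ∃ k : D, (k : M) ∈ Cfsg.invertedBy D t ∧ π k = f := by
    intro f hf
    obtain ⟨c, k, rfl, hct, hcs, hk⟩ := hdec f
    refine ⟨k, hk, ?_⟩
    have hcF : π c ∈ F := by
      have := mul_mem hf (inv_mem (hKF k hk))
      rwa [mul_inv_cancel_right] at this
    rw [hfix _ hcF (by rw [hτ, hct]), one_mul]
  obtain ⟨f₀, hf₀⟩ := hFc.exists_generator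
  obtain ⟨g, hg, hgf⟩ := hFK f₀ f₀.2
  have hgz : ∀ x ∈ Subgroup.zpowers (g : M), x ∈ Cfsg.invertedBy D t := by
    rintro _ ⟨i, rfl⟩
    refine ⟨zpow_mem g.2 i, ?_⟩
    rw [← conj_zpow, hg.2, inv_zpow]
  have hKz : ∀ k ∈ Cfsg.invertedBy D t, k ∈ Subgroup.zpowers (g : M) := by
    intro k hk
    obtain ⟨i, hi⟩ := hf₀ ⟨_, hKF ⟨k, hk.1⟩ hk⟩
    have hi' : π g ^ i = π ⟨k, hk.1⟩ := by rw [hgf]; exact congrArg Subtype.val hi
    refine ⟨i, ?_⟩
    have hgi : (g : M) ^ i ∈ Cfsg.invertedBy D t := hgz _ ⟨i, rfl⟩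
    refine h.inj _ hgi k hk ?_
    have hi'' : π (g ^ i) = π ⟨k, hk.1⟩ := by rw [map_zpow]; exact hi'
    have := congrArg (fun q => ((ψ q ⟨s, h.sE⟩ : E) : M)) hi''
    simp only [hψ, h.act_apply, SubgroupClass.coe_zpow] at this
    exact this
  refine ⟨g, hg, Set.ext fun x => ⟨hgz x, hKz x⟩, fun d hd => ?_⟩
  obtain ⟨c, k, hc, hct, hk, rfl⟩ := InvertedSet.exists_decomp h.odd h.tt h.tD hd
  obtain ⟨i, rfl⟩ := hKz k hk
  have : c * (g : M) ^ i * g * (c * (g : M) ^ i)⁻¹ = c * g * c⁻¹ := by group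
  rw [this]
  refine hKz _ ⟨mul_mem (mul_mem hc g.2) (inv_mem hc), ?_⟩
  calc t * (c * g * c⁻¹) * t⁻¹ = (t * c * t⁻¹) * (t * g * t⁻¹) * (t * c * t⁻¹)⁻¹ := by group
    _ = (c * g * c⁻¹)⁻¹ := by rw [hct, hg.2]; group

omit h in
/-- The action as additive endomorphisms. -/
def rho (h : Data D E t s) : D →* AddMonoid.End (Additive E) where
  toFun d := MonoidHom.toAdditive (h.act d).toMonoidHom
  map_one' := by
    refine AddMonoidHom.ext fun v => Additive.toMul.injective ?_
    change h.act 1 v.toMul = v.toMul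
    rw [map_one]; rfl
  map_mul' c d := by
    refine AddMonoidHom.ext fun v => Additive.toMul.injective ?_
    change h.act (c * d) v.toMul = h.act c (h.act d v.toMul)
    rw [map_mul]; rfl

theorem rho_apply (d : D) (v : Additive E) :
    (((h.rho d v).toMul : E) : M) = (d : M) * ((v.toMul : E) : M) * (d : M)⁻¹ := rfl

/-- The centralizer of `t` induces a cyclic group on the inverted set. -/
theorem exists_generator {g : M} (hgK : (Subgroup.zpowers g : Set M) = Cfsg.invertedBy D t)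
    (hnorm : ∀ d ∈ D, d * g * d⁻¹ ∈ Subgroup.zpowers g) :
    ∃ v ∈ D ⊓ Subgroup.centralizer ({t} : Set M),
      (D ⊓ Subgroup.centralizer ({t} : Set M) ⊓ Subgroup.centralizer (Cfsg.invertedBy D t)) ⊔
        Subgroup.closure {v} = D ⊓ Subgroup.centralizer ({t} : Set M) := by
  haveI : IsMulCommutative E := ⟨⟨fun a b => Subtype.ext (h.comm a a.2 b b.2)⟩⟩
  set V := D ⊓ Subgroup.centralizer ({t} : Set M) with hV
  have hgD : g ∈ D := ((Set.ext_iff.1 hgK g).1 (Subgroup.mem_zpowers g)).1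
  set g' : D := ⟨g, hgD⟩
  haveI : Finite (Additive E) := inferInstanceAs (Finite E)
  have hs : (Additive.ofMul (⟨s, h.sE⟩ : E)) ≠ 0 := fun e =>
    h.s_ne (congrArg (fun v : Additive E => ((v.toMul : E) : M)) e)
  have hinj : Function.Injective (h.rho g') := fun v w e => by
    have e1 := congrArg (fun v : Additive E => ((v.toMul : E) : M)) e
    simp only [rho_apply] at e1
    exact Additive.toMul.injective (Subtype.ext (mul_left_cancel (mul_right_cancel e1)))
  have hmove : ∀ a : Additive E, a ≠ 0 →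
      ∃ i : ℕ, (h.rho g' ^ i) (Additive.ofMul (⟨s, h.sE⟩ : E)) = a := by
    intro a ha
    obtain ⟨k, hk, hks⟩ := h.exists_k _ (a.toMul : E).2
      (fun e => ha (Additive.toMul.injective (Subtype.ext e)))
    rw [← hgK] at hk
    obtain ⟨i, hi⟩ := Submonoid.mem_powers_iff _ _ |>.mp (mem_powers_iff_mem_zpowers.mpr hk)
    refine ⟨i, Additive.toMul.injective (Subtype.ext ?_)⟩
    rw [← map_pow, rho_apply, SubgroupClass.coe_pow, hi]
    exact hks
  let ρ : V →* AddMonoid.End (Additive E) := h.rho.comp (Subgroup.inclusion inf_le_left)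
  have hρ : ∀ v : V, ρ v * h.rho g' * ρ v⁻¹ =
      h.rho (⟨v, (Subgroup.mem_inf.1 v.2).1⟩ * g' * (⟨v, (Subgroup.mem_inf.1 v.2).1⟩ : D)⁻¹) := by
    intro v
    rw [map_mul, map_mul]
    rfl
  obtain ⟨v, hv⟩ := CyclicModulo.exists_generator (h.rho g') hs hinj hmove ρ (fun v => by
    obtain ⟨i, hi⟩ := Submonoid.mem_powers_iff _ _ |>.mp
      (mem_powers_iff_mem_zpowers.mpr (hnorm v (Subgroup.mem_inf.1 v.2).1))
    refine ⟨i, ?_⟩
    rw [hρ v, ← map_pow]
    exact congrArg _ (Subtype.ext (by push_cast; exact hi.symm)))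
  refine ⟨v, v.2, le_antisymm (sup_le inf_le_left ((Subgroup.closure_le _).2 (by simp))) ?_⟩
  intro x hx
  obtain ⟨i, u, hxu, hu⟩ := hv ⟨x, hx⟩
  have hx' : x = (u : M) * (v : M) ^ i := by
    have := congrArg Subtype.val hxu
    simpa using this
  suffices hu' : (u : M) ∈ Subgroup.centralizer (Cfsg.invertedBy D t) by
    have h1 : (u : M) ∈ V ⊓ Subgroup.centralizer (Cfsg.invertedBy D t) :=
      Subgroup.mem_inf.2 ⟨u.2, hu'⟩
    have h2 : (v : M) ^ i ∈ Subgroup.closure ({(v : M)} : Set M) :=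
      Subgroup.zpow_mem _ (Subgroup.subset_closure (Set.mem_singleton _)) i
    rw [hx']
    exact Subgroup.mul_mem _ (Subgroup.mem_sup_left h1) (Subgroup.mem_sup_right h2)
  have hd := (Subgroup.mem_inf.1 u.2).1
  have h3 : (u : M) * g * (u : M)⁻¹ = g := by
    refine h.inj _ ((Set.ext_iff.1 hgK _).1 (hnorm _ hd)) g
      ((Set.ext_iff.1 hgK g).1 (Subgroup.mem_zpowers g)) ?_
    have h4 := congrArg (fun φ : AddMonoid.End (Additive E) =>
      (((φ (Additive.ofMul (⟨s, h.sE⟩ : E))).toMul : E) : M)) ((hρ u).symm.trans hu)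
    simp only [rho_apply] at h4
    simpa [g'] using h4
  rw [Subgroup.mem_centralizer_iff]
  intro k hk
  rw [← hgK] at hk
  obtain ⟨j, rfl⟩ := hk
  exact ((show Commute (u : M) g from mul_inv_eq_iff_eq_mul.1 h3).zpow_right j).eq.symm

end Data

end Cfsg.Agent.Involutions.InvertedCyclic
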