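import Cfsg.Agent.Solvable.Thompson
import Cfsg.Agent.Lib.Cores.Nilpotent
import Cfsg.Agent.Lib.Involutions.TwoGroups
import Cfsg.Agent.Lib.Involutions.RankOne.Fix

/-!
# `Q` is nilpotent; the involutions of `G_a` are central in `Q`
-/

set_option autoImplicit false
set_option linter.unusedSectionVars false

namespace Cfsg.Agent.Involutions.RankOne

open MulAction Involutions.Basic

variable {G Ω : Type*} [Group G] [Finite G] [MulAction G Ω] {a : Ω} {t : G} {Q : Subgroup G}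
variable (hS : Cfsg.IsRankOneSetup G Ω a t Q)
variable (h2 : ∃ x y : G, x ≠ 1 ∧ y ≠ 1 ∧ x ≠ y ∧ x * x = 1 ∧ y * y = 1 ∧ x * y = y * x)

local notation "H" => MulAction.stabilizer G a
local notation "D" => (MulAction.stabilizer G a ⊓ MulAction.stabilizer G (t • a))

include hS

/-- An element conjugating a fixed point to `a` puts the element into `G_a`. -/
theorem conj_mem_H {g x : G} {c : Ω} (hg : g • c = a) (hx : x • c = c) : g * x * g⁻¹ ∈ H := by
  show (g * x * g⁻¹) • a = a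
  rw [← hg, mul_smul, mul_smul, inv_smul_smul, hx]

theorem exists_to_a (c : Ω) : ∃ g : G, g • c = a := by
  obtain ⟨g, hg⟩ := exists_smul_a hS c
  exact ⟨g⁻¹, by rw [← hg, inv_smul_smul]⟩

include h2

theorem exists_two : ∃ s ∈ Cfsg.involutionsIn (H : Set G),
    ∃ s' ∈ Cfsg.involutionsIn (H : Set G), s ≠ s' := by
  obtain ⟨x, y, hx, hy, hne, hx2, hy2, hxy⟩ := h2
  obtain ⟨γ, hγ, huniq⟩ := fixed_unique hS hx hx2
  have hyγ : y • γ = γ := huniq _ (by
    show x • y • γ = y • γ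
    rw [smul_smul, hxy, mul_smul, hγ])
  obtain ⟨g, hg⟩ := exists_to_a hS γ
  have key : ∀ z : G, z ≠ 1 → z * z = 1 → z • γ = γ →
      g * z * g⁻¹ ∈ Cfsg.involutionsIn (H : Set G) := fun z hz hz2 hzγ => by
    refine (mem_involutions hS).2 ⟨?_, conj_mem_H hS hg hzγ⟩
    rw [orderOf_conj]
    exact orderOf_two_iff.2 ⟨hz2, hz⟩
  exact ⟨_, key x hx hx2 hγ, _, key y hy hy2 hyγ, fun e => hne (mul_left_cancel (mul_right_cancel e))⟩

theorem exists_K_ne_one : ∃ k ∈ Cfsg.invertedBy D t, k ≠ 1 := by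
  obtain ⟨s, hs, s', hs', hne⟩ := exists_two hS h2
  obtain ⟨k, hk, hks⟩ := exists_K hS hs hs'
  refine ⟨k, hk, ?_⟩
  rintro rfl
  exact hne (by simpa using hks)

theorem isNilpotent_Q : Group.IsNilpotent Q := by
  obtain ⟨k, hk, hk1⟩ := exists_K_ne_one hS h2
  obtain ⟨p, hp, hpd⟩ := Nat.exists_prime_and_dvd (fun h => hk1 (orderOf_eq_one_iff.1 h))
  haveI := Fact.mk hp
  set x := k ^ (orderOf k / p) with hxdef
  have hxK : x ∈ Cfsg.invertedBy D t := by
    refine ⟨pow_mem hk.1 _, ?_⟩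
    rw [hxdef, ← conj_pow, hk.2, inv_pow]
  have hxo : orderOf x = p := orderOf_pow_orderOf_div (orderOf_pos k).ne' hpd
  have hx1 : x ≠ 1 := by
    intro h
    rw [h, orderOf_one] at hxo
    exact hp.ne_one hxo.symm
  have hxn : x ∈ Subgroup.normalizer (Q : Set G) :=
    (Subgroup.le_normalizer_iff.2 hS.conj_mem : H ≤ Subgroup.normalizer (Q : Set G)) hxK.1.1
  set φ : MulAut Q := Subgroup.normalizerMonoidHom Q ⟨x, hxn⟩ with hφ
  have happly : ∀ (q : Q), (φ q : G) = x * q * x⁻¹ := fun q => rfl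
  refine Solvable.Thompson.isNilpotent_of_fixedPointFree φ hp (fun q hq => ?_) ?_
  · have h1 : x * (q : G) * x⁻¹ = q := by rw [← happly, hq]
    have h : (q : G) ∈ Q ⊓ Subgroup.centralizer ({x} : Set G) :=
      Subgroup.mem_inf.2 ⟨q.2, Subgroup.mem_centralizer_singleton_iff.2
        (mul_inv_eq_iff_eq_mul.1 h1).symm⟩
    rw [cent_Q_eq_one hS hxK hx1] at h
    exact Subtype.ext (Subgroup.mem_bot.1 h)
  · rw [hφ, ← map_pow]
    convert map_one (Subgroup.normalizerMonoidHom Q)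
    exact Subtype.ext (show x ^ p = 1 by rw [← hxo]; exact pow_orderOf_eq_one x)

/-- The involutions of `G_a` are central in `Q`. -/
theorem involution_central {s : G} (hs : s ∈ Cfsg.involutionsIn (H : Set G)) {q : G} (hq : q ∈ Q) :
    s * q = q * s := by
  haveI := isNilpotent_Q hS h2
  haveI : Fact (Nat.Prime 2) := ⟨Nat.prime_two⟩
  obtain ⟨S⟩ : Nonempty (Sylow 2 Q) := inferInstance
  haveI hSn : (S : Subgroup Q).Normal := inferInstance
  have hSne : (S : Subgroup Q) ≠ ⊥ := S.ne_bot_of_dvd_card (even_iff_two_dvd.1 hS.even_card)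
  haveI : Nontrivial ↥((S : Subgroup Q) ⊓ Subgroup.center Q) :=
    (Subgroup.nontrivial_iff_ne_bot _).2 (Cores.inf_center_ne_bot hSne)
  obtain ⟨⟨z, hzm⟩, hz, -⟩ := TwoGroups.exists_central_involution
    (S.2.to_le inf_le_left : IsPGroup 2 ↥((S : Subgroup Q) ⊓ Subgroup.center Q))
  have hzo : orderOf (z : G) = 2 := by
    rw [Subgroup.orderOf_coe]
    rwa [Subgroup.orderOf_mk] at hz
  have hzc : ∀ y ∈ Q, (z : G) * y = y * z := fun y hy =>
    (congrArg Subtype.val (Subgroup.mem_center_iff.1 hzm.2 ⟨y, hy⟩)).symm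
  obtain ⟨k, hk, hks⟩ := exists_K hS ((mem_involutions hS).2 ⟨hzo, hS.le z.2⟩) hs
  have hq' : k⁻¹ * q * k ∈ Q := by simpa using hS.conj_mem k⁻¹ (inv_mem hk.1.1) q hq
  have h := hzc _ hq'
  rw [← hks]
  calc k * z * k⁻¹ * q = k * ((z : G) * (k⁻¹ * q * k)) * k⁻¹ := by group
    _ = k * ((k⁻¹ * q * k) * z) * k⁻¹ := by rw [h]
    _ = q * (k * z * k⁻¹) := by group

theorem involutions_closed {s s' : G} (hs : s ∈ Cfsg.involutionsIn (H : Set G))
    (hs' : s' ∈ Cfsg.involutionsIn (H : Set G)) :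
    s * s' = 1 ∨ s * s' ∈ Cfsg.involutionsIn (H : Set G) := by
  by_cases h : s * s' = 1
  · exact Or.inl h
  obtain ⟨hso, hsH⟩ := (mem_involutions hS).1 hs
  obtain ⟨hso', hsH'⟩ := (mem_involutions hS).1 hs'
  refine Or.inr ((mem_involutions hS).2 ⟨orderOf_two_iff.2 ⟨?_, h⟩, mul_mem hsH hsH'⟩)
  have hc := involution_central hS h2 hs (involution_mem hS hsH' (inv_sq_one hso'))
  calc s * s' * (s * s') = s * (s' * s) * s' := by group
    _ = s * (s * s') * s' := by rw [hc]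
    _ = (s * s) * (s' * s') := by group
    _ = 1 := by rw [inv_sq_one hso, inv_sq_one hso', one_mul]

end Cfsg.Agent.Involutions.RankOne
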